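import Cfsg.Agent.ClassRank.Main
import Cfsg.Agent.Kazarin.Main
import Cfsg.Agent.Comp.Basic
import Cfsg.Agent.FGSB.ThreeCounts
import Cfsg.Agent.FGSB.Small
import Cfsg.Agent.FGSB.PRegClass
import Cfsg.Agent.S4033
import Cfsg.Agent.S4160

/-!
# Centerless groups with three class sizes: general tools
-/

set_option autoImplicit false
set_option linter.unusedSectionVars false
set_option linter.style.haveILetI false

namespace CfsgLib.ThreeSizeCenterless

open Subgroup
open CfsgLib.ClassRank (cs cs_mul centralizer_mul_of_coprime exists_mul_of_coprime_index)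

universe u

variable {G : Type u} [Group G]

/-- The centraliser of an element. -/
abbrev C (x : G) : Subgroup G := centralizer ({x} : Set G)

theorem mem_C {x y : G} : y ∈ C x ↔ Commute y x :=
  mem_centralizer_singleton_iff.trans ⟨fun h => h, fun h => h.eq⟩

theorem self_mem (x : G) : x ∈ C x := mem_C.2 (Commute.refl x)

theorem mem_C_symm {x y : G} (h : y ∈ C x) : x ∈ C y := mem_C.2 (mem_C.1 h).symm

theorem C_conj (g x : G) : C (g * x * g⁻¹) = (C x).map (MulAut.conj g).toMonoidHom := by
  ext w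
  rw [mem_map_equiv, mem_C, mem_C, MulAut.conj_symm_apply]
  constructor <;> intro h
  · show g⁻¹ * w * g * x = x * (g⁻¹ * w * g)
    calc g⁻¹ * w * g * x = g⁻¹ * (w * (g * x * g⁻¹)) * g := by group
      _ = g⁻¹ * ((g * x * g⁻¹) * w) * g := by rw [h.eq]
      _ = x * (g⁻¹ * w * g) := by group
  · show w * (g * x * g⁻¹) = g * x * g⁻¹ * w
    calc w * (g * x * g⁻¹) = g * ((g⁻¹ * w * g) * x) * g⁻¹ := by group
      _ = g * (x * (g⁻¹ * w * g)) * g⁻¹ := by rw [h.eq]
      _ = g * x * g⁻¹ * w := by group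

theorem cs_conj (g x : G) : cs (g * x * g⁻¹) = cs x := by
  show (C (g * x * g⁻¹)).index = (C x).index
  rw [C_conj]
  exact index_map_equiv _ (MulAut.conj g)

theorem conj_ne_one {x : G} (g : G) (hx : x ≠ 1) : g * x * g⁻¹ ≠ 1 := fun h => hx (conj_eq_one_iff.1 h)

theorem orderOf_conj (g x : G) : orderOf (g * x * g⁻¹) = orderOf x :=
  orderOf_injective (MulAut.conj g).toMonoidHom (MulAut.conj g).injective x

theorem mul_ne_one_of_coprime {x y : G} (hc : (orderOf x).Coprime (orderOf y)) (hx : x ≠ 1) :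
    x * y ≠ 1 := by
  intro h
  rw [eq_inv_of_mul_eq_one_right h, orderOf_inv, Nat.coprime_self] at hc
  exact hx (orderOf_eq_one_iff.1 hc)

theorem ne_one_of_prime {x : G} (hx : (orderOf x).Prime) : x ≠ 1 :=
  fun h => by rw [h, orderOf_one] at hx; exact Nat.not_prime_one hx

theorem isSolvable_of_le {H K : Subgroup G} (h : H ≤ K) (hK : Group.IsSolvable K) :
    Group.IsSolvable H := by
  haveI := hK
  exact Group.isSolvable_of_isSolvable_injective (inclusion_injective h)

theorem isSolvable_of_normal (N : Subgroup G) [N.Normal] (h1 : Group.IsSolvable N)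
    (h2 : Group.IsSolvable (G ⧸ N)) : Group.IsSolvable G :=
  Group.isSolvable_of_ker_le_range N.subtype (QuotientGroup.mk' N) (by simp)

theorem isSolvable_of_comm {A : Subgroup G} (h : IsMulCommutative A) : Group.IsSolvable A :=
  Group.isSolvable_of_comm fun a b => h.is_comm.comm a b

variable [Finite G]

theorem cs_pos (x : G) : 0 < cs x := Nat.pos_of_ne_zero index_ne_zero_of_finite

theorem C_eq_of_le {x y : G} (h : C x ≤ C y) (e : cs x = cs y) : C x = C y := by
  refine Subgroup.eq_of_le_of_card_ge h ?_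
  have h1 := cs_mul x
  have h2 := cs_mul y
  rw [e] at h1
  exact le_of_eq (Nat.eq_of_mul_eq_mul_right (cs_pos y) (h2.trans h1.symm))

theorem cs_dvd_mul_left {x y : G} (h : Commute x y) (hc : (orderOf x).Coprime (orderOf y)) :
    cs x ∣ cs (x * y) :=
  index_dvd_of_le (by rw [centralizer_mul_of_coprime h hc]; exact inf_le_left)

theorem cs_dvd_mul_right {x y : G} (h : Commute x y) (hc : (orderOf x).Coprime (orderOf y)) :
    cs y ∣ cs (x * y) :=
  index_dvd_of_le (by rw [centralizer_mul_of_coprime h hc]; exact inf_le_right)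

/-- A normal solvable subgroup containing all normal solvable subgroups. -/
theorem exists_radical : ∃ R : Subgroup G, R.Normal ∧ Group.IsSolvable R ∧
    ∀ N : Subgroup G, N.Normal → Group.IsSolvable N → N ≤ R := by
  have hne : {N : Subgroup G | N.Normal ∧ Group.IsSolvable N}.Nonempty :=
    ⟨⊥, Subgroup.normal_bot, inferInstance⟩
  obtain ⟨R, ⟨hRn, hRs⟩, hmax⟩ := Set.exists_max_image
    {N : Subgroup G | N.Normal ∧ Group.IsSolvable N} (fun N => Nat.card N) (Set.toFinite _) hne
  refine ⟨R, hRn, hRs, fun N hN hNs => ?_⟩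
  haveI := hRn
  haveI := hN
  have hle := hmax (N ⊔ R) ⟨sup_normal N R, CfsgLib.Comp.isSolvable_sup hRs hNs⟩
  have heq : R = N ⊔ R := Subgroup.eq_of_le_of_card_ge le_sup_right hle
  rw [heq]
  exact le_sup_left

/-- If outside one prime all prime power elements have solvable normal closure, the group is solvable. -/
theorem isSolvable_of_closures (s : ℕ)
    (h : ∀ (p : ℕ) (w : G), p.Prime → p ≠ s → p ∣ Nat.card G → (∃ k, orderOf w = p ^ k) →
      Group.IsSolvable (normalClosure ({w} : Set G))) : Group.IsSolvable G := by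
  obtain ⟨R, hRn, hRs, hR⟩ := exists_radical (G := G)
  haveI := hRn
  refine isSolvable_of_normal R hRs (CfsgLib.ThreeCounts.isSolvable_of_primeFactors_le ?_)
  rw [← Subgroup.index_eq_card]
  refine le_trans (Finset.card_le_card (t := ({s} : Finset ℕ)) fun p hp => ?_) (by simp)
  rw [Finset.mem_singleton]
  by_contra hps
  have hpp := Nat.prime_of_mem_primeFactors hp
  have hpd := Nat.dvd_of_mem_primeFactors hp
  haveI := Fact.mk hpp
  obtain ⟨P⟩ : Nonempty (Sylow p G) := inferInstance
  have hle : (P : Subgroup G) ≤ R := by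
    intro w hw
    obtain ⟨k, hk⟩ := P.2 ⟨w, hw⟩
    obtain ⟨j, -, hj⟩ := (Nat.dvd_prime_pow hpp).1
      (orderOf_dvd_of_pow_eq_one (congrArg Subtype.val hk) : orderOf w ∣ p ^ k)
    exact hR _ normalClosure_normal (h p w hpp hps (hpd.trans (index_dvd_card R)) ⟨j, hj⟩)
      (subset_normalClosure rfl)
  exact P.not_dvd_index (hpd.trans (index_dvd_of_le hle))

theorem exists_sylow_le {p : ℕ} [hp : Fact p.Prime] (A : Subgroup G) (h : ¬ p ∣ A.index) :
    ∃ P : Sylow p G, (P : Subgroup G) ≤ A := by
  obtain ⟨P₀⟩ : Nonempty (Sylow p A) := inferInstance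
  obtain ⟨P, hP⟩ := (P₀.2.map A.subtype).exists_le_sylow
  refine ⟨P, ?_⟩
  have heq : (P₀ : Subgroup A).map A.subtype = P := by
    refine Subgroup.eq_of_le_of_card_ge hP ?_
    rw [card_map_of_injective A.subtype_injective, P.card_eq_multiplicity, P₀.card_eq_multiplicity]
    refine Nat.pow_le_pow_right hp.out.pos (le_of_eq ?_)
    rw [← A.card_mul_index, Nat.factorization_mul Nat.card_pos.ne' index_ne_zero_of_finite,
      Finsupp.add_apply, Nat.factorization_eq_zero_of_not_dvd h, add_zero]
  exact heq ▸ map_subtype_le _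

theorem exists_conj_mem {p : ℕ} [hp : Fact p.Prime] (A : Subgroup G) (h : ¬ p ∣ A.index) {w : G}
    (hw : ∃ k, orderOf w = p ^ k) : ∃ g : G, g * w * g⁻¹ ∈ A := by
  obtain ⟨k, hk⟩ := hw
  obtain ⟨P, hP⟩ := exists_sylow_le A h
  obtain ⟨Q, hQ⟩ := (IsPGroup.of_card (p := p) (n := k) (G := zpowers w)
    (by rw [Nat.card_zpowers, hk])).exists_le_sylow
  obtain ⟨g, hg⟩ := MulAction.exists_smul_eq G Q P
  refine ⟨g, hP ?_⟩
  rw [← hg, Sylow.smul_def, Sylow.pointwise_smul_def, mem_pointwise_smul_iff_inv_smul_mem]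
  simpa [MulAut.smul_def, mul_assoc] using hQ (mem_zpowers w)

theorem cs_dvd_index_of_comm {p : ℕ} [Fact p.Prime] (A : Subgroup G) (hA : IsMulCommutative A)
    (h : ¬ p ∣ A.index) {w : G} (hw : ∃ k, orderOf w = p ^ k) : cs w ∣ A.index := by
  obtain ⟨g, hg⟩ := exists_conj_mem A h hw
  rw [← cs_conj g w]
  exact index_dvd_of_le fun a ha => mem_C.2 (congrArg Subtype.val (hA.is_comm.comm ⟨a, ha⟩ ⟨_, hg⟩))

/-- With trivial centre every prime divisor of the order divides some class size. -/
theorem exists_dvd_cs (hZ : center G = ⊥) {p : ℕ} (hp : p.Prime) (hd : p ∣ Nat.card G) :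
    ∃ x : G, p ∣ cs x := by
  haveI := Fact.mk hp
  by_contra hno
  push Not at hno
  obtain ⟨P⟩ : Nonempty (Sylow p G) := inferInstance
  have htop : centralizer ((P : Subgroup G) : Set G) = ⊤ := by
    refine CfsgLib.FGSBSmall.eq_top_of_conj_cover fun g => ?_
    obtain ⟨Q, hQ⟩ := exists_sylow_le (C g) (hno g)
    obtain ⟨k, hk⟩ := MulAction.exists_smul_eq G P Q
    refine ⟨k, mem_centralizer_iff.2 fun w hw => ?_⟩
    have hmem : k * w * k⁻¹ ∈ (Q : Subgroup G) := by
      rw [← hk, Sylow.smul_def, Sylow.pointwise_smul_def, mem_pointwise_smul_iff_inv_smul_mem]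
      show (MulAut.conj k)⁻¹ • (k * w * k⁻¹) ∈ (P : Subgroup G)
      simpa [MulAut.smul_def, mul_assoc] using SetLike.mem_coe.1 hw
    have h := (mem_C.1 (hQ hmem)).eq
    calc w * (k⁻¹ * g * k) = k⁻¹ * (k * w * k⁻¹ * g) * k := by group
      _ = k⁻¹ * (g * (k * w * k⁻¹)) * k := by rw [h]
      _ = k⁻¹ * g * k * w := by group
  have hle : (P : Subgroup G) ≤ center G := fun w hw => mem_center_iff.2 fun g =>
    ((mem_centralizer_iff.1 (htop ▸ mem_top g : g ∈ centralizer ((P : Subgroup G) : Set G))) w hw).symm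
  exact P.ne_bot_of_dvd_card hd (le_bot_iff.1 (hZ ▸ hle))

theorem pComplement_spec {p : ℕ} (hp : p.Prime) (h : Cfsg.HasNormalPComplement p G) :
    ∃ N : Subgroup G, N.Normal ∧ ¬ p ∣ Nat.card N ∧ (∀ r : ℕ, r.Prime → r ∣ N.index → r = p) ∧
      ∀ [N.Normal], Group.IsSolvable (G ⧸ N) := by
  haveI := Fact.mk hp
  obtain ⟨P, N, hN, hc⟩ := h
  refine ⟨N, hN, ?_, ?_, ?_⟩
  · rw [← hc.index_eq_card]
    exact P.not_dvd_index
  · intro r hr hrd
    obtain ⟨k, hk⟩ := IsPGroup.iff_card.1 P.2
    rw [hc.symm.index_eq_card, hk] at hrd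
    exact (Nat.prime_dvd_prime_iff_eq hr hp).1 (hr.dvd_of_dvd_pow hrd)
  · intro _
    obtain ⟨k, hk⟩ := IsPGroup.iff_card.1 P.2
    refine CfsgLib.PRegClass.isSolvable_of_isPGroup hp (IsPGroup.of_card (n := k) ?_)
    rw [← Subgroup.index_eq_card, hc.symm.index_eq_card, hk]

/-- Intersect normal complements for a set of primes. -/
theorem exists_inter_complements (T : Finset ℕ) (hT : ∀ p ∈ T, p.Prime)
    (h : ∀ p ∈ T, Cfsg.HasNormalPComplement p G) :
    ∃ M : Subgroup G, M.Normal ∧ (∀ [M.Normal], Group.IsSolvable (G ⧸ M)) ∧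
      (∀ p ∈ T, ¬ p ∣ Nat.card M) ∧ ∀ r : ℕ, r.Prime → r ∣ M.index → r ∈ T := by
  classical
  induction T using Finset.induction with
  | empty =>
    refine ⟨⊤, inferInstance, fun {_} => ?_, by simp, fun r hr h => ?_⟩
    swap
    · rw [index_top] at h
      exact absurd h hr.not_dvd_one
    haveI : Subsingleton (G ⧸ (⊤ : Subgroup G)) := QuotientGroup.subsingleton_quotient_top
    exact Group.isSolvable_of_comm fun a b => Subsingleton.elim _ _
  | @insert p T hpT ih =>
    obtain ⟨M, hM, hMs, hMp, hMi⟩ := ih (fun q hq => hT q (Finset.mem_insert_of_mem hq))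
      (fun q hq => h q (Finset.mem_insert_of_mem hq))
    obtain ⟨N, hN, hNp, hNi, hNs⟩ := pComplement_spec (hT p (Finset.mem_insert_self p T))
      (h p (Finset.mem_insert_self p T))
    haveI := hM
    haveI := hN
    refine ⟨M ⊓ N, inferInstance, fun {_} => ?_, ?_, fun r hr h => ?_⟩
    rotate_left 2
    · rw [← relIndex_mul_index (inf_le_left : M ⊓ N ≤ M), inf_relIndex_left] at h
      rcases hr.dvd_mul.1 h with e | e
      · rw [hNi r hr (e.trans (relIndex_dvd_index_of_normal N M))]
        exact Finset.mem_insert_self p T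
      · exact Finset.mem_insert_of_mem (hMi r hr e)
    · haveI : Group.IsSolvable (G ⧸ M) := hMs
      haveI : Group.IsSolvable (G ⧸ N) := hNs
      let f : G ⧸ (M ⊓ N) →* (G ⧸ M) × (G ⧸ N) :=
        QuotientGroup.lift (M ⊓ N) ((QuotientGroup.mk' M).prod (QuotientGroup.mk' N)) (fun g hg => by
          rw [MonoidHom.mem_ker]
          exact Prod.ext ((QuotientGroup.eq_one_iff g).2 hg.1) ((QuotientGroup.eq_one_iff g).2 hg.2))
      refine Group.isSolvable_of_isSolvable_injective (f := f) ((injective_iff_map_eq_one f).2 ?_)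
      intro q hq
      induction q using QuotientGroup.induction_on with
      | H g =>
        have h1 := congrArg Prod.fst hq
        have h2 := congrArg Prod.snd hq
        exact (QuotientGroup.eq_one_iff g).2
          ⟨(QuotientGroup.eq_one_iff g).1 h1, (QuotientGroup.eq_one_iff g).1 h2⟩
    · intro q hq hd
      rcases Finset.mem_insert.1 hq with rfl | hq
      · exact hNp (hd.trans (card_dvd_of_le inf_le_right))
      · exact hMp q hq (hd.trans (card_dvd_of_le inf_le_left))

/-- Two class sizes of `s`-regular elements. -/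
theorem two_regular {s m : ℕ} (hs : s.Prime)
    (h : ∀ u : G, (orderOf u).Coprime s → cs u = 1 ∨ cs u = m) :
    Group.IsSolvable G ∧ (m ≠ 1 → ∀ d : G, (orderOf d).Coprime s → cs d = m → (orderOf d).Prime →
      ∃ q : ℕ, (∀ r : ℕ, r.Prime → r ∣ m → r = s ∨ r = q) ∧ (orderOf d = s ∨ orderOf d = q)) := by
  classical
  by_cases hex : ∃ u : G, (orderOf u).Coprime s ∧ cs u ≠ 1
  · obtain ⟨u, hu, hu1⟩ := hex
    have hum : cs u = m := (h u hu).resolve_left hu1
    have hm1 : m ≠ 1 := hum ▸ hu1
    have hC1 : cs (1 : G) = 1 := by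
      show (C (1 : G)).index = 1
      rw [index_eq_one, eq_top_iff]
      exact fun g _ => mem_C.2 (Commute.one_right g)
    have h2 : Set.ncard (Set.range fun x : {x : G // (orderOf x).Coprime s} =>
        (ConjClasses.mk (x : G)).carrier.ncard) = 2 := by
      simp only [CfsgLib.PRegClass.ncard_carrier]
      have : (Set.range fun x : {x : G // (orderOf x).Coprime s} => (C (x : G)).index) = {1, m} := by
        ext n
        constructor
        · rintro ⟨x, rfl⟩
          rcases h x x.2 with e | e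
          · exact Or.inl e
          · exact Or.inr e
        · rintro (rfl | rfl)
          · exact ⟨⟨1, by simp⟩, hC1⟩
          · exact ⟨⟨u, hu⟩, hum⟩
      rw [this, Set.ncard_pair (Ne.symm hm1)]
    rcases Cfsg.Agent.S4033.result hs h2 with hA | ⟨q, hq, P, Q, A, hqs, hAc, hcard, hn, hinf, hsup⟩
    · have hcond : CfsgLib.PRegClass.Cond s G := (CfsgLib.PRegClass.cond_iff hs).2 hA
      refine ⟨CfsgLib.PRegClass.isSolvable_of_cond hs hcond,
        fun _ d _ _ _ => ⟨orderOf d, fun r hr hrm => ?_, Or.inr rfl⟩⟩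
      obtain ⟨k, hk⟩ := hcond u hu
      have hm : m = s ^ k := hum.symm.trans hk
      rw [hm] at hrm
      exact Or.inl ((Nat.prime_dvd_prime_iff_eq hr hs).1 (hr.dvd_of_dvd_pow hrm))
    · haveI := Fact.mk hs
      set K := (P : Subgroup G) ⊔ (Q : Subgroup G) with hK
      haveI := hn
      obtain ⟨i, hi⟩ := IsPGroup.iff_card.1 P.2
      obtain ⟨j, hj⟩ := IsPGroup.iff_card.1 Q.2
      have hKpr : ∀ r : ℕ, r.Prime → r ∣ Nat.card K → r = s ∨ r = q := by
        intro r hr hrd
        rw [hcard, hi, hj] at hrd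
        rcases hr.dvd_mul.1 hrd with e | e
        · exact Or.inl ((Nat.prime_dvd_prime_iff_eq hr hs).1 (hr.dvd_of_dvd_pow e))
        · exact Or.inr ((Nat.prime_dvd_prime_iff_eq hr hq.out).1 (hr.dvd_of_dvd_pow e))
      have hmul : ∀ g : G, ∃ k ∈ K, ∃ a ∈ A, k * a = g := by
        intro g
        have hg : g ∈ ((K ⊔ A : Subgroup G) : Set G) := by rw [hsup]; exact mem_top g
        rw [normal_mul] at hg
        obtain ⟨k, hk, a, ha, rfl⟩ := hg
        exact ⟨k, hk, a, ha, rfl⟩
      constructor
      · refine isSolvable_of_normal K ?_ ?_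
        · refine CfsgLib.ThreeCounts.isSolvable_of_primeFactors_le
            (le_trans (Finset.card_le_card (t := ({s, q} : Finset ℕ)) fun r hr => ?_) Finset.card_le_two)
          rcases hKpr r (Nat.prime_of_mem_primeFactors hr) (Nat.dvd_of_mem_primeFactors hr) with e | e <;>
            simp [e]
        · refine Group.isSolvable_of_comm fun x y => ?_
          induction x using QuotientGroup.induction_on with
          | H x =>
            induction y using QuotientGroup.induction_on with
            | H y =>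
              obtain ⟨k, hk, a, ha, rfl⟩ := hmul x
              obtain ⟨k', hk', a', ha', rfl⟩ := hmul y
              rw [QuotientGroup.mk_mul, QuotientGroup.mk_mul, (QuotientGroup.eq_one_iff k).2 hk,
                (QuotientGroup.eq_one_iff k').2 hk', one_mul, one_mul, ← QuotientGroup.mk_mul,
                ← QuotientGroup.mk_mul, mem_center_iff.1 (hAc ha') a]
      · intro _ d _ hdm hdp
        have hcompl : IsComplement' K A := by
          refine isComplement'_of_disjoint_and_mul_eq_univ (disjoint_iff.2 hinf) ?_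
          rw [← normal_mul, hsup, coe_top]
        refine ⟨q, fun r hr hrm => hKpr r hr (hrm.trans ?_), hKpr _ hdp ?_⟩
        · rw [← hum, ← hcompl.index_eq_card]
          exact index_dvd_of_le fun a ha => mem_C.2 ((mem_center_iff.1 (hAc ha)) u).symm
        · rw [← hcompl.index_eq_card]
          by_contra hnd
          haveI := Fact.mk hdp
          obtain ⟨g, hg⟩ := exists_conj_mem A hnd (w := d) ⟨1, (pow_one _).symm⟩
          refine hm1 ?_
          rw [← hdm, ← cs_conj g d]
          exact index_eq_one.2 (eq_top_iff.2 fun v _ => mem_C.2 (mem_center_iff.1 (hAc hg) v))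
  · push Not at hex
    refine ⟨CfsgLib.PRegClass.isSolvable_of_cond hs fun x hx => ⟨0, by rw [pow_zero]; exact hex x hx⟩, ?_⟩
    intro hm u hu hum _
    exact absurd (hum.symm.trans (hex u hu)) hm

end CfsgLib.ThreeSizeCenterless
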