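import Cfsg.Agent.ThreeSizeCenterless.Config
import Cfsg.Agent.ClassRank.Main
import Cfsg.Agent.S0205
import Cfsg.Agent.S2202
import Cfsg.Agent.S3922
import Cfsg.Agent.S4134
import Cfsg.Agent.GLElem.PSL2Classes
import Cfsg.Agent.Classical.PSLTwoSub
import Cfsg.Agent.InvChar.OneSixtyEight

/-!
# Groups with trivial centre and three nontrivial class sizes
-/

set_option autoImplicit false

namespace CfsgLib.ThreeSizeCenterless

open Subgroup
open CfsgLib.ClassRank (cs ThreeSizes)

universe u

variable {G : Type u} [Group G] [Finite G]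

theorem isSolvable_of_odd_quotient (P : Subgroup G) [P.Normal] [Group.IsSolvable P]
    (h : Odd P.index) : Group.IsSolvable G := by
  haveI : Group.IsSolvable (G ⧸ P) := Cfsg.Agent.S0205.result (by rwa [← Subgroup.index_eq_card])
  exact (Group.isSolvable_iff_subgroup_quotient P).2 ⟨inferInstance, inferInstance⟩

theorem main (hZ : center G = ⊥)
    (h : Nat.card {n : ℕ | 1 < n ∧ ∃ x : G, (Subgroup.centralizer ({x} : Set G)).index = n} ≤ 3) :
    Group.IsSolvable G ∨ ∃ a : ℕ, 0 < a ∧
      Nonempty (G ≃* Matrix.ProjectiveSpecialLinearGroup (Fin 2) (GaloisField 2 a)) := by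
  classical
  refine (em (Group.IsSolvable G)).imp_right fun hs => ?_
  haveI : Fact (Nat.Prime 2) := ⟨Nat.prime_two⟩
  set S := {n : ℕ | 1 < n ∧ ∃ x : G, (Subgroup.centralizer ({x} : Set G)).index = n} with hS
  rw [Nat.card_coe_set_eq] at h
  have hfin : S.Finite := (Set.finite_range fun x : G => (centralizer ({x} : Set G)).index).subset
    fun n hn => ⟨hn.2.choose, hn.2.choose_spec⟩
  have hone : ∀ x : G, cs x = 1 → x = 1 := by
    intro x hx
    have htop : centralizer ({x} : Set G) = ⊤ := index_eq_one.1 hx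
    rw [← mem_bot, ← hZ, mem_center_iff]
    exact fun g => mem_centralizer_singleton_iff.1 (htop ▸ mem_top g)
  have hmem : ∀ x : G, x ≠ 1 → cs x ∈ S := fun x hx =>
    ⟨lt_of_le_of_ne (Nat.one_le_iff_ne_zero.2 index_ne_zero_of_finite) fun e => hx (hone x e.symm), x, rfl⟩
  have hval : ∀ n ∈ S, ∃ x : G, x ≠ 1 ∧ cs x = n := by
    rintro n ⟨hn, x, hx⟩
    refine ⟨x, fun e => ?_, hx⟩
    rw [← hx, e] at hn
    have htop : centralizer ({(1 : G)} : Set G) = ⊤ := by
      ext w; simp [mem_centralizer_singleton_iff]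
    rw [htop, index_top] at hn
    omega
  have hall : ∀ x : G, cs x = 1 ∨ cs x ∈ S := fun x => by
    by_cases hx : x = 1
    · left; subst hx
      exact index_eq_one.2 (by ext w; simp [mem_centralizer_singleton_iff])
    · exact Or.inr (hmem x hx)
  have h3 : S.ncard = 3 := by
    rcases (show S.ncard = 0 ∨ S.ncard = 1 ∨ S.ncard = 2 ∨ S.ncard = 3 by omega) with e | e | e | e
    · exfalso; apply hs
      rw [Set.ncard_eq_zero hfin] at e
      haveI : Subsingleton G := subsingleton_of_forall_eq 1 fun x => by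
        by_contra hx
        have := hmem x hx
        rw [e] at this
        exact this
      exact Group.isSolvable_of_comm fun a b => Subsingleton.elim _ _
    · exfalso; apply hs
      obtain ⟨n, hn⟩ := Set.ncard_eq_one.1 e
      have hnS : n ∈ S := by rw [hn]; rfl
      obtain ⟨p, hp, a, -, hP⟩ := Cfsg.Agent.S4134.result (G := G) n hnS.1
        (fun x => (hall x).imp id fun hx => by rwa [hn] at hx) hnS.2
      obtain ⟨P⟩ : Nonempty (Sylow p G) := inferInstance
      obtain ⟨hPn, ⟨N, hN, hc, hNc, -⟩, -⟩ := hP P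
      haveI := hN
      haveI : Group.IsSolvable N := Group.isSolvable_of_comm fun a b => hNc.is_comm.comm a b
      haveI : Group.IsNilpotent (P : Subgroup G) := P.2.isNilpotent
      haveI : Group.IsSolvable (G ⧸ N) :=
        Group.isSolvable_of_surjective (f := hc.symm.QuotientMulEquiv.symm.toMonoidHom)
          hc.symm.QuotientMulEquiv.symm.surjective
      exact (Group.isSolvable_iff_subgroup_quotient N).2 ⟨inferInstance, inferInstance⟩
    · exfalso; apply hs
      obtain ⟨n, m, hnm, hn⟩ := Set.ncard_eq_two.1 e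
      have hn' : n ∈ S := by rw [hn]; exact Set.mem_insert _ _
      have hm' : m ∈ S := by rw [hn]; exact Set.mem_insert_of_mem _ rfl
      have hc : ∀ x : G, cs x = 1 ∨ cs x = n ∨ cs x = m := fun x =>
        (hall x).imp id fun hx => by rwa [hn] at hx
      rcases lt_or_gt_of_ne hnm with hlt | hlt
      · exact Cfsg.Agent.S3922.result m n hlt hn'.1 hc hm'.2 hn'.2
      · exact Cfsg.Agent.S3922.result n m hlt hm'.1 (fun x => (hc x).imp id Or.symm) hn'.2 hm'.2
    · exact e
  by_cases hfree : ∀ x y : G, x ≠ 1 → y ≠ 1 → cs x ∣ cs y → cs x = cs y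
  swap
  · exfalso
    push Not at hfree
    obtain ⟨x, y, hx, hy, hdvd, hne⟩ := hfree
    have hsub : ({cs x, cs y} : Set ℕ) ⊆ S := by
      rintro n (rfl | rfl); exacts [hmem x hx, hmem y hy]
    obtain ⟨c, hcS, hc⟩ := Set.exists_of_ssubset (hsub.ssubset_of_ne fun e => by
      rw [← e, Set.ncard_pair hne] at h3; omega)
    simp only [Set.mem_insert_iff, Set.mem_singleton_iff, not_or] at hc
    have hex : S = {cs x, cs y, c} := by
      refine (Set.eq_of_subset_of_ncard_le ?_ ?_ hfin).symm
      · rintro n (rfl | rfl | rfl); exacts [hmem x hx, hmem y hy, hcS]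
      · rw [h3]
        exact (Set.ncard_eq_three.2 ⟨cs x, cs y, c, hne, fun e => hc.1 e.symm, fun e => hc.2 e.symm, rfl⟩).ge
    exact NF.false_of_nf
      { a := cs x, b := cs y, c := c, ns := hs, hZ := hZ
        cases := fun w hw => by
          have := hmem w hw
          rwa [hex] at this
        exA := ⟨x, hx, rfl⟩, exB := ⟨y, hy, rfl⟩, exC := hval c hcS
        hab := hdvd, nab := hne, nac := fun e => hc.1 e.symm, nbc := fun e => hc.2 e.symm }
  let T : ThreeSizes G :=
    { sizes := S, mem := hmem, three := h3, na := fun e => hs (Group.isSolvable_of_comm e), val := hval }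
  have heven : Even (Nat.card G) := by
    by_contra ho
    exact hs (Cfsg.Agent.S0205.result (Nat.not_even_iff_odd.1 ho))
  obtain ⟨P⟩ : Nonempty (Sylow 2 G) := inferInstance
  have hPs : Group.IsSolvable (P : Subgroup G) := by
    haveI : Group.IsNilpotent (P : Subgroup G) := P.2.isNilpotent
    infer_instance
  rcases Cfsg.Agent.S2202.result heven (fun t ht => T.abelian_of_free hfree t ht) with
    hP | hP | ⟨F, iF, iFt, A, iA, iAf, hchar, -, ⟨eG⟩⟩
  · exfalso
    have hp : (Nat.card G).minFac = 2 :=
      Nat.minFac_eq_two_iff (Nat.card G) |>.2 (even_iff_two_dvd.1 heven)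
    have hc := IsCyclic.isComplement' hp (hP P)
    set H := (MonoidHom.transferSylow P ((hP P).normalizer_le_centralizer hp)).ker
    haveI : Group.IsSolvable H := Cfsg.Agent.S0205.result (by
      rw [Nat.odd_iff, ← Nat.not_even_iff, even_iff_two_dvd, ← hc.index_eq_card]
      exact P.not_dvd_index)
    haveI : Group.IsSolvable (G ⧸ H) :=
      Group.isSolvable_of_surjective (f := hc.symm.QuotientMulEquiv.symm.toMonoidHom)
        hc.symm.QuotientMulEquiv.symm.surjective
    exact hs ((Group.isSolvable_iff_subgroup_quotient H).2 ⟨inferInstance, inferInstance⟩)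
  · exfalso
    haveI := hP P
    refine hs (isSolvable_of_odd_quotient (P : Subgroup G) ?_)
    rw [Nat.odd_iff, ← Nat.not_even_iff, even_iff_two_dvd]
    exact P.not_dvd_index
  haveI : Subsingleton A := by
    refine ⟨fun x y => ?_⟩
    have key : ∀ w : A, w = 1 := by
      intro w
      have hmem : eG.symm (1, w) ∈ center G := by
        rw [mem_center_iff]
        intro g
        obtain ⟨⟨s, v⟩, rfl⟩ := eG.symm.surjective g
        rw [← map_mul, ← map_mul]
        simp [mul_comm v w]
      rw [hZ, mem_bot, map_eq_one_iff eG.symm eG.symm.injective] at hmem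
      exact congrArg Prod.snd hmem
    rw [key x, key y]
  haveI : Unique A := uniqueOfSubsingleton 1
  haveI := hchar
  obtain ⟨n, -, hn⟩ := FiniteField.card F 2
  have hc : center (Matrix.SpecialLinearGroup (Fin 2) F) = ⊥ := by
    rw [eq_bot_iff]
    intro x hx
    have h1 : eG.symm (x, 1) ∈ center G := by
      rw [mem_center_iff]
      intro g
      obtain ⟨⟨s, v⟩, rfl⟩ := eG.symm.surjective g
      rw [← map_mul, ← map_mul]
      simp [mem_center_iff.1 hx s]
    rw [hZ, mem_bot, map_eq_one_iff eG.symm eG.symm.injective] at h1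
    exact mem_bot.2 (congrArg Prod.fst h1)
  let eSL : Matrix.SpecialLinearGroup (Fin 2) F ≃* Matrix.ProjectiveSpecialLinearGroup (Fin 2) F :=
    ((QuotientGroup.quotientMulEquivOfEq hc).trans QuotientGroup.quotientBot).symm
  haveI : Fintype (GaloisField 2 n) := Fintype.ofFinite _
  have hcard : Fintype.card F = Fintype.card (GaloisField 2 n) := by
    rw [hn, ← Nat.card_eq_fintype_card (α := GaloisField 2 n), GaloisField.card 2 n n.pos.ne']
  obtain ⟨e⟩ := CfsgLib.InvChar.psl_congr (FiniteField.ringEquivOfCardEq hcard)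
  exact ⟨n, n.pos, ⟨((eG.trans MulEquiv.prodUnique).trans eSL).trans e⟩⟩

end CfsgLib.ThreeSizeCenterless
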