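import Cfsg.Agent.ThreeSizeCenterless.Sizes

/-!
# The case `a ∣ b`, `c ∣ b`
-/

set_option autoImplicit false
set_option linter.unusedSectionVars false
set_option linter.style.haveILetI false

namespace CfsgLib.ThreeSizeCenterless

open Subgroup
open CfsgLib.ClassRank (cs exists_pow_prime)

universe u

variable {G : Type u} [Group G] [Finite G]

namespace NF

theorem prime_coprime {p q : ℕ} (hp : p.Prime) (hq : q.Prime) (h : p ≠ q) : p.Coprime q :=
  (Nat.coprime_primes hp hq).2 h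

theorem caseA_side (T : NF G) (hcb : T.c ∣ T.b) {x y d : G} (hx : cs x = T.a) (hy : cs y = T.c)
    (hxp : (orderOf x).Prime) (hyp : (orderOf y).Prime) (hne : orderOf x ≠ orderOf y) (hxc : orderOf x ∣ T.c)
    (hd : cs d = T.a) (hdo : orderOf d = orderOf y) (hdx : d ∈ C x) (hdy : d ∈ C y) : False := by
  classical
  set r := orderOf y with hr
  have hdisj : ∀ q : ℕ, q.Prime → q ∣ (T.swap hcb).m → q = r := by
    intro q hq hqn
    by_contra hqr
    obtain ⟨w, hwo, -, hwc, hwC⟩ := (T.swap hcb).exists_same_centralizer (x := y) hy hq hqn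
      (prime_coprime hq hyp hqr)
    refine T.coprime_false hd hwc (mem_C.1 (hwC.symm ▸ hdy : d ∈ C w)) ?_
    rw [hdo, hwo]
    exact prime_coprime hyp hq (Ne.symm hqr)
  have hbn : T.b = T.c * (T.swap hcb).m := (T.swap hcb).b_eq
  have han : T.a ∣ (T.swap hcb).m := T.coprime.dvd_of_dvd_mul_left (hbn ▸ T.hab)
  have hcm : T.c ∣ T.m := T.coprime.symm.dvd_of_dvd_mul_left (T.b_eq ▸ hcb)
  have hrm : r ∣ T.m := by
    obtain ⟨k, hk⟩ := hcm
    have hk1 : k ≠ 1 := fun h => T.b_ne_mul (by rw [T.b_eq, hk, h, mul_one])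
    obtain ⟨q, hq, hqk⟩ := Nat.exists_prime_and_dvd hk1
    have hqn : q ∣ (T.swap hcb).m := by
      have e : T.c * (T.swap hcb).m = T.c * (T.a * k) := by
        rw [← hbn, T.b_eq, hk]; ring
      rw [Nat.eq_of_mul_eq_mul_left T.c_pos e]
      exact Dvd.dvd.mul_left hqk _
    exact hdisj q hq hqn ▸ hqk.trans (Dvd.intro_left _ hk.symm)
  by_cases htwo : ∃ q : ℕ, q.Prime ∧ q ∣ T.c ∧ q ≠ orderOf x
  · obtain ⟨q, hq, hqc, hqx⟩ := htwo
    have hnz : (C d).relIndex (C x) ≠ 1 := by
      intro h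
      have heq := C_eq_of_le (relIndex_eq_one.1 h) (hx.trans hd.symm)
      exact T.coprime_false hx hy (mem_C.1 (heq.symm ▸ mem_C_symm hdy : y ∈ C x)).symm
        (prime_coprime hxp hyp hne)
    obtain ⟨q₀, hq₀, -⟩ := (T.two_regular_C hx hxp).2 d hdx
      (by rw [hdo]; exact prime_coprime hyp hxp (Ne.symm hne)) (hdo.symm ▸ hyp) hnz
    have e1 : r = q₀ := (hq₀ r hyp hrm).resolve_left (Ne.symm hne)
    have e2 : q = q₀ := (hq₀ q hq (hqc.trans hcm)).resolve_left hqx
    have hqr : q = r := e2.trans e1.symm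
    obtain ⟨p, hp, hpa⟩ := Nat.exists_prime_and_dvd T.a_ne_one
    exact T.no_common hp hpa ((hdisj p hp (hpa.trans han)).trans hqr.symm ▸ hqc)
  · push Not at htwo
    apply T.ns
    refine CfsgLib.ThreeCounts.isSolvable_of_primeFactors_le
      (le_trans (Finset.card_le_card (t := ({r, orderOf x} : Finset ℕ)) fun p hp => ?_) Finset.card_le_two)
    have hpp := Nat.prime_of_mem_primeFactors hp
    rw [Finset.mem_insert, Finset.mem_singleton]
    rcases T.prime_dvd_size hpp (Nat.dvd_of_mem_primeFactors hp) with e | e | e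
    · exact Or.inl (hdisj p hpp (e.trans han))
    · rw [hbn] at e
      rcases hpp.dvd_mul.1 e with e | e
      · exact Or.inr (htwo p hpp e)
      · exact Or.inl (hdisj p hpp e)
    · exact Or.inr (htwo p hpp e)

theorem not_c_dvd_b (T : NF G) : ¬ T.c ∣ T.b := by
  intro hcb
  obtain ⟨s, hs, hsc⟩ := Nat.exists_prime_and_dvd T.c_ne_one
  obtain ⟨r, hr, hra⟩ := Nat.exists_prime_and_dvd T.a_ne_one
  obtain ⟨x, hxo, hx1, hxn, -⟩ := T.exists_central hs (hsc.trans T.c_dvd_card)
  obtain ⟨y, hyo, hy1, hyn, -⟩ := T.exists_central hr (hra.trans T.a_dvd_card)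
  have hx : cs x = T.a := by
    rcases T.cases x hx1 with e | e | e
    · exact e
    · exact absurd (e ▸ hsc.trans hcb) hxn
    · exact absurd (e ▸ hsc) hxn
  have hy : cs y = T.c := by
    rcases T.cases y hy1 with e | e | e
    · exact absurd (e ▸ hra) hyn
    · exact absurd (e ▸ hra.trans T.hab) hyn
    · exact e
  have hsr : s ≠ r := fun h => T.no_common hr hra (h ▸ hsc)
  have hnc : ¬ Commute x y := fun h =>
    T.coprime_false hx hy h (by rw [hxo, hyo]; exact prime_coprime hs hr hsr)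
  -- the intersection is nontrivial
  have hD : C x ⊓ C y ≠ ⊥ := by
    intro h
    have h1 := T.card_inter hx hy
    rw [h, card_bot, one_mul] at h1
    exact T.b_ne_mul (Nat.dvd_antisymm (h1 ▸ T.b_dvd_card) (T.coprime.mul_dvd_of_dvd_of_dvd T.hab hcb))
  obtain ⟨d₀, hd₀, hd₀1⟩ := (Subgroup.bot_or_exists_ne_one _).resolve_left hD
  obtain ⟨k, hk⟩ := exists_pow_prime hd₀1
  have hd : d₀ ^ k ∈ C x ⊓ C y := pow_mem hd₀ k
  set d := d₀ ^ k
  have hd1 : d ≠ 1 := ne_one_of_prime hk
  rcases T.cases d hd1 with e | e | e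
  · have hdr : orderOf d = orderOf y := by
      by_contra h
      exact T.coprime_false e hy (mem_C.1 hd.2) (prime_coprime hk (hyo ▸ hr) h)
    exact T.caseA_side hcb hx hy (hxo ▸ hs) (hyo ▸ hr) (by rw [hxo, hyo]; exact hsr) (hxo ▸ hsc) e hdr hd.1 hd.2
  · by_cases h : orderOf d = s
    · have hle := T.absorbB e (mem_C.1 hd.2) (by rw [h, hyo]; exact prime_coprime hs hr hsr)
      exact hnc (mem_C.1 (hle (mem_C_symm hd.1)))
    · have hle := T.absorbB e (mem_C.1 hd.1) (by rw [hxo]; exact prime_coprime hk hs h)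
      exact hnc (mem_C.1 (hle (mem_C_symm hd.2))).symm
  · have hdr : orderOf d = orderOf x := by
      by_contra h
      exact T.coprime_false hx e (mem_C.1 hd.1).symm (prime_coprime (hxo ▸ hs) hk (Ne.symm h))
    exact (T.swap hcb).caseA_side T.hab hy hx (hyo ▸ hr) (hxo ▸ hs) (by rw [hxo, hyo]; exact hsr.symm)
      (hyo ▸ hra) e hdr hd.2 hd.1

end NF

end CfsgLib.ThreeSizeCenterless
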