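import Cfsg.Agent.ThreeSizeCenterless.CaseA

/-!
# The case `c ∤ b` with at most one prime of `b` outside `a`
-/

set_option autoImplicit false
set_option linter.unusedSectionVars false
set_option linter.style.haveILetI false

namespace CfsgLib.ThreeSizeCenterless

open Subgroup
open CfsgLib.ClassRank (cs cs_mul centralizer_mul_of_coprime le_centralizer_of_prime_pow)

universe u

variable {G : Type u} [Group G] [Finite G]

namespace NF

variable (T : NF G)

include T

theorem multC' {x : G} (hx : x ≠ 1) (h : T.c ∣ cs x) : cs x = T.c :=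
  (T.multC hx h).resolve_right fun e => T.not_c_dvd_b e.2

theorem absorbC {y u : G} (hy : cs y = T.c) (hu : u ∈ C y) (hu1 : u ≠ 1)
    (hc : (orderOf u).Coprime (orderOf y)) : cs u = T.c ∧ C u = C y := by
  have hcomm : Commute u y := mem_C.1 hu
  have hle1 : C (u * y) ≤ C u := by rw [C, centralizer_mul_of_coprime hcomm hc]; exact inf_le_left
  have hle2 : C (u * y) ≤ C y := by rw [C, centralizer_mul_of_coprime hcomm hc]; exact inf_le_right
  have huy : cs (u * y) = T.c := T.multC' (mul_ne_one_of_coprime hc hu1) (hy ▸ index_dvd_of_le hle2)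
  have hcu : cs u = T.c := T.dvdC hu1 (huy ▸ index_dvd_of_le hle1)
  exact ⟨hcu, (C_eq_of_le hle1 (huy.trans hcu.symm)).symm.trans (C_eq_of_le hle2 (huy.trans hy.symm))⟩

theorem C_comm_or_pGroup {y : G} {r : ℕ} (hr : r.Prime) (hy : cs y = T.c) (hyo : orderOf y = r) :
    IsMulCommutative (C y) ∨ IsPGroup r (C y) := by
  haveI := Fact.mk hr
  refine or_iff_not_imp_right.2 fun hnp => ?_
  obtain ⟨t, ht, hne, v, hvo, hvC⟩ : ∃ t : ℕ, t.Prime ∧ t ≠ r ∧ ∃ v : G, orderOf v = t ∧ v ∈ C y := by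
    by_contra hno
    push Not at hno
    apply hnp
    obtain ⟨k, hk⟩ : ∃ k, Nat.card (C y) = r ^ k := by
      refine ⟨_, Nat.eq_prime_pow_of_unique_prime_dvd Nat.card_pos.ne' fun {d} hd hdd => ?_⟩
      by_contra h
      haveI := Fact.mk hd
      obtain ⟨v, hv⟩ := exists_prime_orderOf_dvd_card' (G := C y) d hdd
      exact hno d hd h v (by rw [orderOf_coe, hv]) v.2
    exact IsPGroup.of_card hk
  have hy1 : y ≠ 1 := ne_one_of_prime (hyo ▸ hr)
  have hv1 : v ≠ 1 := ne_one_of_prime (hvo ▸ ht)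
  obtain ⟨hvc, hveq⟩ := T.absorbC hy hvC hv1 (by rw [hvo, hyo]; exact (Nat.coprime_primes ht hr).2 hne)
  refine ⟨⟨fun u w => Subtype.ext ?_⟩⟩
  have := le_centralizer_of_prime_pow (C y) (u : G) (fun p z hp hz ⟨k, hzo⟩ => ?_) w.2
  · exact (mem_C.1 this).symm.eq
  by_cases hz1 : z = 1
  · rw [hz1]; exact Commute.one_right _
  have heq : C z = C y := by
    by_cases hpr : p = r
    · rw [← hveq]
      refine (T.absorbC hvc (hveq.symm ▸ hz) hz1 ?_).2
      rw [hzo, hvo, hpr]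
      exact ((Nat.coprime_primes hr ht).2 hne.symm).pow_left k
    · refine (T.absorbC hy hz hz1 ?_).2
      rw [hzo, hyo]
      exact ((Nat.coprime_primes hp hr).2 hpr).pow_left k
  exact mem_C.1 (heq.symm ▸ u.2 : (u : G) ∈ C z)

theorem C_eq_of_comm {y u : G} (hy : cs y = T.c) (hK : IsMulCommutative (C y)) (hu : u ∈ C y) (hu1 : u ≠ 1) :
    cs u = T.c ∧ C u = C y := by
  have hle : C y ≤ C u := fun w hw => mem_C.2 (congrArg Subtype.val (hK.is_comm.comm ⟨w, hw⟩ ⟨u, hu⟩))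
  have hcu : cs u = T.c := T.dvdC hu1 (hy ▸ index_dvd_of_le hle)
  exact ⟨hcu, (C_eq_of_le hle (hy.trans hcu.symm)).symm⟩

theorem inter_eq_bot_of_comm {x y : G} (hx : cs x = T.a) (hy : cs y = T.c) (hK : IsMulCommutative (C y)) :
    C x ⊓ C y = ⊥ := by
  refine (Subgroup.eq_bot_iff_forall _).2 fun d hd => ?_
  by_contra hd1
  have heq := (T.C_eq_of_comm hy hK hd.2 hd1).2
  have hxy : x ∈ C y := heq ▸ mem_C_symm hd.1
  have hx1 : x ≠ 1 := by
    rintro rfl
    refine T.a_ne_one (hx ▸ ?_)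
    exact index_eq_one.2 (eq_top_iff.2 fun g _ => mem_C.2 (Commute.one_right g))
  exact T.nac (hx.symm.trans (T.C_eq_of_comm hy hK hxy hx1).1)

theorem card_C_of_inter {x y : G} (hx : cs x = T.a) (hy : cs y = T.c) (hD : C x ⊓ C y = ⊥) :
    Nat.card G = T.a * T.c ∧ Nat.card (C y) = T.a ∧ Nat.card (C x) = T.c := by
  have h := T.card_inter hx hy
  rw [hD, card_bot, one_mul] at h
  refine ⟨h.symm, ?_, ?_⟩
  · have h' := cs_mul y
    rw [hy, ← h] at h'
    exact Nat.eq_of_mul_eq_mul_right T.c_pos h'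
  · have h' := cs_mul x
    rw [hx, ← h, mul_comm T.a] at h'
    exact Nat.eq_of_mul_eq_mul_right T.a_pos h'

/-- If `a` is not a prime power, some centraliser of size `a` is abelian. -/
theorem abelian_of_composite {y : G} {r q : ℕ} (hr : r.Prime) (hy : cs y = T.c) (hyo : orderOf y = r)
    (hq : q.Prime) (hqa : q ∣ T.a) (hqr : q ≠ r) : IsMulCommutative (C y) := by
  refine (T.C_comm_or_pGroup hr hy hyo).resolve_right fun hp => hqr ?_
  haveI := Fact.mk hr
  obtain ⟨k, hk⟩ := IsPGroup.iff_card.1 hp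
  have h1 : T.a * T.c ∣ Nat.card (C y) * T.c := by rw [← hy, cs_mul, hy]; exact T.ac_dvd_card
  have h2 : q ∣ r ^ k := hk ▸ hqa.trans (Nat.dvd_of_mul_dvd_mul_right T.c_pos h1)
  exact (Nat.prime_dvd_prime_iff_eq hq hr).1 (hq.dvd_of_dvd_pow h2)

theorem two_outside_primes : ∃ s q : ℕ, s.Prime ∧ q.Prime ∧ s ≠ q ∧ s ∣ T.b ∧ q ∣ T.b ∧ ¬ s ∣ T.a ∧ ¬ q ∣ T.a := by
  classical
  by_contra hno
  push Not at hno
  have hS : ∀ s q : ℕ, s.Prime → q.Prime → s ∣ T.b → q ∣ T.b → ¬ s ∣ T.a → ¬ q ∣ T.a → s = q := by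
    intro s q h1 h2 h3 h4 h5 h6
    by_contra hne
    exact h6 (hno s q h1 h2 hne h3 h4 h5)
  set TS := (Nat.card G).primeFactors.filter (fun p => ¬ p ∣ T.a ∧ ¬ p ∣ T.b) with hTS
  have hTp : ∀ p ∈ TS, p.Prime := fun p hp => Nat.prime_of_mem_primeFactors (Finset.mem_filter.1 hp).1
  obtain ⟨x, hxp, hx⟩ := T.exists_primeA
  apply T.ns
  by_cases hall : ∀ p ∈ TS, Cfsg.HasNormalPComplement p G
  · obtain ⟨M, hMn, hMs, hMT, hMi⟩ := exists_inter_complements TS hTp hall
    haveI := hMn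
    haveI : Group.IsSolvable (G ⧸ M) := hMs
    refine isSolvable_of_normal M ?_ inferInstance
    have hMp : ∀ p : ℕ, p.Prime → p ∣ Nat.card M → p ∣ T.a ∨ (¬ p ∣ T.a ∧ p ∣ T.b) := by
      intro p hp hpd
      by_cases hpa : p ∣ T.a
      · exact Or.inl hpa
      refine Or.inr ⟨hpa, ?_⟩
      by_contra hpb
      exact hMT p (Finset.mem_filter.2 ⟨Nat.mem_primeFactors.2
        ⟨hp, hpd.trans M.card_subgroup_dvd_card, Nat.card_pos.ne'⟩, hpa, hpb⟩) hpd
    obtain ⟨s₀, hs₀⟩ : ∃ s₀ : ℕ, ∀ p : ℕ, p.Prime → ¬ p ∣ T.a → p ∣ T.b → p = s₀ := by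
      by_cases h : ∃ p : ℕ, p.Prime ∧ ¬ p ∣ T.a ∧ p ∣ T.b
      · obtain ⟨p, hp, hpa, hpb⟩ := h
        exact ⟨p, fun p' hp' hpa' hpb' => hS p' p hp' hp hpb' hpb hpa' hpa⟩
      · exact ⟨0, fun p hp hpa hpb => absurd ⟨p, hp, hpa, hpb⟩ h⟩
    obtain ⟨y, hyp, hy⟩ := T.exists_primeC
    by_cases hcomp : ∃ q : ℕ, q.Prime ∧ q ∣ T.a ∧ q ≠ orderOf y
    · obtain ⟨q, hq, hqa, hqy⟩ := hcomp
      have hK := T.abelian_of_composite hyp hy rfl hq hqa hqy
      obtain ⟨-, hKcard, -⟩ := T.card_C_of_inter hx hy (T.inter_eq_bot_of_comm hx hy hK)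
      have hKM : C y ≤ M := by
        rw [← relIndex_eq_one]
        by_contra h1
        obtain ⟨p, hp, hpd⟩ := Nat.exists_prime_and_dvd h1
        have hpT := hMi p hp (hpd.trans (relIndex_dvd_index_of_normal M (C y)))
        exact (Finset.mem_filter.1 hpT).2.1 (hKcard ▸ hpd.trans (relIndex_dvd_card _ _))
      have hAc : IsMulCommutative ((C y).subgroupOf M) :=
        ⟨⟨fun u w => Subtype.ext (Subtype.ext (show ((u : M) : G) * ((w : M) : G) = ((w : M) : G) * ((u : M) : G) from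
          congrArg Subtype.val (hK.is_comm.comm ⟨_, mem_subgroupOf.1 u.2⟩ ⟨_, mem_subgroupOf.1 w.2⟩)))⟩⟩
      have hidx : ∀ p : ℕ, p.Prime → p ∣ (C y).relIndex M → p = s₀ := by
        intro p hp hpd
        have hpc : p ∣ T.c := hy ▸ hpd.trans (relIndex_dvd_index_of_le hKM)
        rcases hMp p hp (hpd.trans (relIndex_dvd_card _ _)) with h | ⟨hpa, hpb⟩
        · exact absurd hpc fun h' => T.no_common hp h h'
        · exact hs₀ p hp hpa hpb
      refine isSolvable_of_closures (G := M) s₀ fun p w hp hps hpd hw => ?_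
      haveI := Fact.mk hp
      have hdvd := cs_dvd_index_of_comm ((C y).subgroupOf M) hAc (fun h => hps (hidx p hp h)) hw
      by_cases h1 : ((C y).subgroupOf M).index = 1
      · rw [h1] at hdvd
        exact CfsgLib.Kazarin.isSolvable_normalClosure (a := 0) hp w
          (by rw [pow_zero]; exact Nat.dvd_one.1 hdvd)
      · obtain ⟨s₁, hs₁, hs₁d⟩ := Nat.exists_prime_and_dvd h1
        have hs₀p : s₀.Prime := hidx s₁ hs₁ hs₁d ▸ hs₁
        have hpow := Nat.eq_prime_pow_of_unique_prime_dvd (p := s₀)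
          (n := ((C y).subgroupOf M).index) index_ne_zero_of_finite fun {d} hd hdd => hidx d hd hdd
        rw [hpow] at hdvd
        obtain ⟨i, -, hi⟩ := (Nat.dvd_prime_pow hs₀p).1 hdvd
        exact CfsgLib.Kazarin.isSolvable_normalClosure hs₀p w hi
    · push Not at hcomp
      refine CfsgLib.ThreeCounts.isSolvable_of_primeFactors_le
        (le_trans (Finset.card_le_card (t := ({orderOf y, s₀} : Finset ℕ)) fun p hp => ?_) Finset.card_le_two)
      rw [Finset.mem_insert, Finset.mem_singleton]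
      rcases hMp p (Nat.prime_of_mem_primeFactors hp) (Nat.dvd_of_mem_primeFactors hp) with h | ⟨h, h'⟩
      · exact Or.inl (hcomp p (Nat.prime_of_mem_primeFactors hp) h)
      · exact Or.inr (hs₀ p (Nat.prime_of_mem_primeFactors hp) h h')
  · push Not at hall
    obtain ⟨p₀, hp₀, hno₀⟩ := hall
    obtain ⟨hp₀pr, hp₀a, hp₀b⟩ := (Finset.mem_filter.1 hp₀)
    have hp₀' := hTp p₀ hp₀
    have hall' : ∀ q ∈ T.a.primeFactors, Cfsg.HasNormalPComplement q G := by
      intro q hq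
      have hqp := Nat.prime_of_mem_primeFactors hq
      have hqa := Nat.dvd_of_mem_primeFactors hq
      refine (Cfsg.Agent.S4160.result p₀ q hp₀' hqp (fun h => hp₀a (h ▸ hqa))
        (exists_dvd_cs T.hZ hp₀' (Nat.dvd_of_mem_primeFactors hp₀pr))
        (by obtain ⟨w, -, hw⟩ := T.exA; exact ⟨w, by show q ∣ cs w; rw [hw]; exact hqa⟩) fun w hw => ?_).resolve_left hno₀
      have h1 : p₀ ∣ cs w := (Dvd.intro q rfl).trans hw
      have h2 : q ∣ cs w := (Dvd.intro_left p₀ rfl).trans hw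
      by_cases hw1 : w = 1
      · have h0 : cs (1 : G) = 1 := index_eq_one.2 (eq_top_iff.2 fun g _ => mem_C.2 (Commute.one_right g))
        rw [hw1, h0] at h1
        exact hp₀'.not_dvd_one h1
      · rcases T.cases w hw1 with e | e | e <;> rw [e] at h1 h2
        · exact hp₀a h1
        · exact hp₀b h1
        · exact T.no_common hqp hqa h2
    obtain ⟨L, hLn, hLs, hLT, -⟩ := exists_inter_complements T.a.primeFactors
      (fun q hq => Nat.prime_of_mem_primeFactors hq) hall'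
    haveI := hLn
    haveI : Group.IsSolvable (G ⧸ L) := hLs
    refine isSolvable_of_normal L (isSolvable_of_le ?_ (T.solvable_C hx hxp)) inferInstance
    rw [← relIndex_eq_one]
    by_contra h1
    obtain ⟨p, hp, hpd⟩ := Nat.exists_prime_and_dvd h1
    have hpa : p ∣ T.a := hx ▸ hpd.trans (CfsgLib.PRegClass.relIndex_dvd_index (C x) L)
    exact hLT p (Nat.mem_primeFactors.2 ⟨hp, hpa, T.a_pos.ne'⟩) (hpd.trans (relIndex_dvd_card _ _))

end NF

end CfsgLib.ThreeSizeCenterless
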