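import Cfsg.Agent.ThreeSizeCenterless.Tools
import Cfsg.Agent.ClassRank.Coprime
import Cfsg.Agent.Char.Kernel
import Cfsg.Agent.Char.Burnside
import Cfsg.Agent.FGSA.ThompsonNil

/-!
# Characters that are scalar at `x`
-/

set_option autoImplicit false
set_option linter.unusedSectionVars false
set_option linter.style.haveILetI false

namespace CfsgLib.ThreeSizeCenterless

open Subgroup CfsgLib.Char
open scoped ComplexConjugate
open CfsgLib.ClassRank (cs)

universe u

variable {G : Type u} [Group G] [Finite G]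

/-- The normal subgroup generated by the commutators with `x`. -/
abbrev comSub (x : G) : Subgroup G :=
  normalClosure (Set.range fun g : G => x * g * x⁻¹ * g⁻¹)

theorem comSub_ne_bot (hZ : center G = ⊥) {x : G} (hx : x ≠ 1) : comSub x ≠ ⊥ := by
  intro h
  refine hx (mem_bot.1 (hZ ▸ mem_center_iff.2 fun g => ?_))
  have h1 : x * g * x⁻¹ * g⁻¹ ∈ comSub x := subset_normalClosure ⟨g, rfl⟩
  rw [h, mem_bot] at h1
  calc g * x = (x * g * x⁻¹ * g⁻¹)⁻¹ * (x * g) := by group
    _ = x * g := by rw [h1, inv_one, one_mul]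

theorem apply_of_norm_eq {χ : G → ℂ} (hχ : Cfsg.IsIrrCharacter G χ) {x : G} (h : ‖χ x‖ = (χ 1).re)
    {w : G} (hw : w ∈ comSub x) : χ w = χ 1 ∧ ∀ g : G, χ (g * w) = χ g := by
  have hch := IsIrrCharacter.isCharacter hχ
  have hker : w ∈ kerSubgroup hch := by
    haveI := kerSubgroup_normal hch
    refine normalClosure_le_normal ?_ hw
    rintro _ ⟨g, rfl⟩
    rw [SetLike.mem_coe, mem_kerSubgroup]
    obtain ⟨n, ρ, hρ, rfl⟩ := hχ
    rw [ρ.char_one, Complex.natCast_re] at h
    obtain ⟨ω, hω⟩ := (norm_character_eq_iff ρ x).1 h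
    have hsc : ρ (x * g) = ρ (g * x) := by
      rw [map_mul, map_mul, hω]
      ext v
      simp
    have h1 : ρ (x * g * x⁻¹ * g⁻¹) = 1 := by
      rw [show x * g * x⁻¹ * g⁻¹ = (x * g) * (g * x)⁻¹ by group, map_mul, hsc, ← map_mul, mul_inv_cancel,
        map_one]
    rw [ρ.char_one]
    simp [Representation.character, h1]
  refine ⟨hker, fun g => ?_⟩
  have h2 := IsCharacter.apply_mul_of_apply_eq hch hker g
  rw [← h2]
  have h3 := IsIrrCharacter.isClassFunction hχ (g * w) w
  rw [← h3]
  congr 1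
  group

/-- If every character not vanishing at `y` is trivial on `W`, the coset `y W` lies in the class of `y`. -/
theorem card_dvd_cs {W : Subgroup G} [W.Normal] {y : G}
    (h : ∀ χ : G → ℂ, Cfsg.IsIrrCharacter G χ → χ y ≠ 0 → ∀ w ∈ W, χ (y * w) = χ y) :
    Nat.card W ∣ cs y := by
  classical
  haveI := Fintype.ofFinite G
  have hconj : ∀ w ∈ W, ∃ g : G, g * y * g⁻¹ = y * w := by
    intro w hw
    have hsum := sum_irr_mul_conj (y * w) y
    rw [Finset.sum_congr rfl (g := fun χ => χ y * conj (χ y)) (fun χ hχ => by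
      by_cases hy : χ y = 0
      · rw [hy]; simp
      · rw [h χ (mem_irrFinset.1 hχ) hy w hw])] at hsum
    have hyy := sum_irr_mul_conj y y
    rw [if_pos (IsConj.refl y)] at hyy
    rw [hyy] at hsum
    by_contra hno
    rw [if_neg (fun hc => hno (isConj_iff.1 hc.symm))] at hsum
    exact (Nat.card_pos (α := Subgroup.centralizer ({y} : Set G))).ne' (by exact_mod_cast hsum)
  set U : Subgroup G := (centralizer ({(QuotientGroup.mk' W y)} : Set (G ⧸ W))).comap (QuotientGroup.mk' W) with hU
  have hCU : C y ≤ U := by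
    intro g hg
    rw [hU, mem_comap, mem_centralizer_singleton_iff, ← map_mul, ← map_mul, (mem_C.1 hg).eq]
  have hmem : ∀ g : U, y⁻¹ * ((g : G) * y * (g : G)⁻¹) ∈ W := by
    intro g
    have hg : (QuotientGroup.mk' W (g : G)) ∈ centralizer ({(QuotientGroup.mk' W y)} : Set (G ⧸ W)) := g.2
    rw [mem_centralizer_singleton_iff] at hg
    rw [← QuotientGroup.eq_one_iff, QuotientGroup.mk_mul, QuotientGroup.mk_mul, QuotientGroup.mk_mul,
      QuotientGroup.mk_inv, QuotientGroup.mk_inv]
    simp only [QuotientGroup.mk'_apply] at hg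
    rw [hg]
    group
  let f : U ⧸ (C y).subgroupOf U → W := Quotient.lift (fun g : U => (⟨_, hmem g⟩ : W)) (fun g g' hgg => by
    have h' : g⁻¹ * g' ∈ (C y).subgroupOf U := QuotientGroup.leftRel_apply.1 hgg
    rw [mem_subgroupOf] at h'
    push_cast at h'
    have hc := (mem_C.1 h').eq
    refine Subtype.ext ?_
    show y⁻¹ * ((g : G) * y * (g : G)⁻¹) = y⁻¹ * ((g' : G) * y * (g' : G)⁻¹)
    congr 1
    symm
    calc (g' : G) * y * (g' : G)⁻¹ = g * (((g : G)⁻¹ * g') * y) * (g' : G)⁻¹ := by group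
      _ = g * (y * ((g : G)⁻¹ * g')) * (g' : G)⁻¹ := by rw [hc]
      _ = g * y * (g : G)⁻¹ := by group)
  have hbij : Function.Bijective f := by
    constructor
    · intro p q
      induction p using QuotientGroup.induction_on with
      | H g =>
        induction q using QuotientGroup.induction_on with
        | H g' =>
          intro heq
          have h' : (g : G) * y * (g : G)⁻¹ = (g' : G) * y * (g' : G)⁻¹ :=
            mul_left_cancel (congrArg Subtype.val heq : y⁻¹ * _ = y⁻¹ * _)
          rw [QuotientGroup.eq, mem_subgroupOf]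
          push_cast
          refine mem_C.2 ?_
          show (g : G)⁻¹ * g' * y = y * ((g : G)⁻¹ * g')
          calc (g : G)⁻¹ * g' * y = (g : G)⁻¹ * ((g' : G) * y * (g' : G)⁻¹) * g' := by group
            _ = (g : G)⁻¹ * ((g : G) * y * (g : G)⁻¹) * g' := by rw [h']
            _ = y * ((g : G)⁻¹ * g') := by group
    · rintro ⟨w, hw⟩
      obtain ⟨g, hg⟩ := hconj w hw
      refine ⟨QuotientGroup.mk ⟨g, ?_⟩, Subtype.ext ?_⟩
      · rw [hU, mem_comap, mem_centralizer_singleton_iff]
        have h1 : g * y = y * w * g := mul_inv_eq_iff_eq_mul.1 hg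
        rw [← map_mul, h1, map_mul, map_mul]
        simp only [QuotientGroup.mk'_apply, (QuotientGroup.eq_one_iff w).2 hw, mul_one]
      · show y⁻¹ * (g * y * g⁻¹) = w
        rw [hg]; group
  have hcard : (C y).relIndex U = Nat.card W := by
    rw [← Nat.card_eq_of_bijective f hbij, ← Subgroup.index_eq_card]
    rfl
  rw [← hcard]
  exact relIndex_dvd_index_of_le hCU

/-- A normal subgroup meeting trivially a self-centralising subgroup is nilpotent. -/
theorem isNilpotent_of_inf_eq_bot {W A : Subgroup G} [W.Normal] (hdis : W ⊓ A = ⊥) {v : G}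
    (hvp : (orderOf v).Prime) (hC : C v = A) : Group.IsNilpotent W := by
  refine CfsgLib.ThompsonNil.isNilpotent hvp (MulAut.conjNormal v : MulAut W) ?_ fun w hw => ?_
  · rw [← map_pow, pow_orderOf_eq_one, map_one]
  · have h1 : v * (w : G) * v⁻¹ = w := by
      have := congrArg Subtype.val hw
      rwa [MulAut.conjNormal_apply] at this
    have hmem : (w : G) ∈ W ⊓ A :=
      ⟨w.2, hC ▸ mem_C.2 (mul_inv_eq_iff_eq_mul.1 h1).symm⟩
    rw [hdis, mem_bot] at hmem
    exact Subtype.ext hmem

end CfsgLib.ThreeSizeCenterless
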