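import Cfsg.Agent.ThreeSizeCenterless.Radical
import Cfsg.Agent.ThreeSizeCenterless.Scalar
import Cfsg.Agent.Solvable.FpfComplement

/-!
# The configuration with trivial solvable radical is impossible
-/

set_option autoImplicit false
set_option linter.unusedSectionVars false
set_option linter.style.haveILetI false

namespace CfsgLib.ThreeSizeCenterless

open Subgroup CfsgLib.Char
open scoped ComplexConjugate
open CfsgLib.ClassRank (cs cs_mul exists_mul_of_coprime_index exists_pow_prime)

universe u

variable {G : Type u} [Group G] [Finite G]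

namespace NF

variable (T : NF G)

include T

theorem false_of_nf : False := by
  classical
  haveI := Fintype.ofFinite G
  have hrad := T.no_solvable_normal
  obtain ⟨x, hxp, hx⟩ := T.exists_primeA
  obtain ⟨y, hyp, hy⟩ := T.exists_primeC
  have hx1 := ne_one_of_prime hxp
  -- `a` is not a prime power
  have hpp : ¬ IsPrimePow T.a := by
    rintro ⟨p, k, hp, -, hpk⟩
    have hcl := CfsgLib.Kazarin.isSolvable_normalClosure hp.nat_prime x (hx.trans hpk.symm)
    exact hx1 (mem_bot.1 (hrad _ normalClosure_normal hcl ▸ subset_normalClosure (Set.mem_singleton x)))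
  obtain ⟨q, hq, hqa, hqy⟩ : ∃ q : ℕ, q.Prime ∧ q ∣ T.a ∧ q ≠ orderOf y := by
    by_contra hno
    push Not at hno
    refine hpp ⟨orderOf y, (T.a).primeFactorsList.length, hyp.prime, ?_, ?_⟩
    · exact List.length_pos_of_ne_nil fun h => by
        rcases (Nat.primeFactorsList_eq_nil _).1 h with e | e
        · exact absurd e T.a_pos.ne'
        · exact T.a_ne_one e
    · exact (Nat.eq_prime_pow_of_unique_prime_dvd T.a_pos.ne' fun {d} hd hdd => hno d hd hdd).symm
  haveI := T.abelian_of_composite hyp hy rfl hq hqa hqy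
  have hK : IsMulCommutative (C y) := inferInstance
  have hAcard : Nat.card (C y) = T.a := T.card_CC hy
  have hidx : (C y).index = T.c := hy
  have hfac : ∀ g : G, ∃ h ∈ C x, ∃ k ∈ C y, g = h * k := exists_mul_of_coprime_index (C x) (C y)
    (by show (cs x).Coprime (cs y); rw [hx, hy]; exact T.coprime)
  let cfg : CfsgLib.ClassRank.CoprimeConfig G :=
    { A := C y
      x := x
      comm := fun u hu w hw => congrArg Subtype.val (hK.is_comm.comm ⟨u, hu⟩ ⟨w, hw⟩)
      self := fun u hu hu1 => (T.C_eq_of_comm hy hK hu hu1).2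
      fac := hfac
      notMem := fun g hg => T.nac (by
        have h := (T.C_eq_of_comm hy hK hg (conj_ne_one g hx1)).1
        rwa [cs_conj, hx] at h) }
  set N := normalizer (C y : Set G) with hN
  set e := (C y).relIndex N with he
  have hAN : C y ≤ N := le_normalizer
  have hec : e ∣ T.c := hidx ▸ relIndex_dvd_index_of_le hAN
  have hwv : ∃ v : G, v ∈ C y ∧ (orderOf v).Prime := ⟨y, self_mem y, hyp⟩
  -- a normal subgroup meeting `A` trivially is trivial
  have hmeet : ∀ W : Subgroup G, W.Normal → W ⊓ C y = ⊥ → W = ⊥ := by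
    intro W hW hdis
    haveI := hW
    haveI := isNilpotent_of_inf_eq_bot hdis hyp rfl
    exact hrad W hW inferInstance
  have hWne := comSub_ne_bot T.hZ hx1
  -- products `x y` are not conjugate into `A`
  have hprod : ∀ v ∈ C y, v ≠ 1 → ∀ g : G, g * (x * v) * g⁻¹ ∉ C y := by
    intro v hv hv1 g hg
    set u := g * (x * v) * g⁻¹ with hu
    have hxv : x * v ≠ 1 := cfg.prod_ne_one hv
    have hCu : Nat.card (Subgroup.centralizer ({u} : Set G)) = Nat.card (C y) := by
      rw [cfg.self u hg (conj_ne_one g hxv)]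
    have hCv : Nat.card (Subgroup.centralizer ({v} : Set G)) = Nat.card (C y) := by rw [cfg.self v hv hv1]
    have h1 := CfsgLib.ClassRank.CoprimeConfig.sum_norm_sq u
    have h2 := CfsgLib.ClassRank.CoprimeConfig.sum_norm_sq v
    rw [hCu] at h1
    rw [hCv] at h2
    have hval : ∀ χ ∈ irrFinset G, ‖χ u‖ ^ 2 = (‖χ x‖ / (χ 1).re) ^ 2 * ‖χ v‖ ^ 2 := by
      intro χ hχ
      rw [← (cfg.term_le (mem_irrFinset.1 hχ) hv).1,
        IsClassFunction.apply_eq_of_isConj (IsIrrCharacter.isClassFunction (mem_irrFinset.1 hχ))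
          (isConj_iff.2 ⟨g, hu.symm⟩ : IsConj (cfg.x * v) u)]
    rw [Finset.sum_congr rfl hval] at h1
    have hle : ∀ χ ∈ irrFinset G, (‖χ x‖ / (χ 1).re) ^ 2 * ‖χ v‖ ^ 2 ≤ ‖χ v‖ ^ 2 := by
      intro χ hχ
      refine mul_le_of_le_one_left (by positivity) ?_
      have hp := (cfg.term_le (mem_irrFinset.1 hχ) hv).2
      rw [sq_le_one_iff₀ (by positivity), div_le_one hp]
      exact IsCharacter.norm_apply_le (IsIrrCharacter.isCharacter (mem_irrFinset.1 hχ)) x
    have hnorm : ∀ χ : G → ℂ, Cfsg.IsIrrCharacter G χ → χ v ≠ 0 → ‖χ x‖ = (χ 1).re := by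
      intro χ hirr hv0
      refine le_antisymm (IsCharacter.norm_apply_le (IsIrrCharacter.isCharacter hirr) x)
        (le_of_not_gt fun hlt0 => ?_)
      have hlt : (‖χ x‖ / (χ 1).re) ^ 2 * ‖χ v‖ ^ 2 < ‖χ v‖ ^ 2 := by
        refine mul_lt_of_lt_one_left (by positivity) ?_
        have hp := (cfg.term_le hirr hv).2
        rw [sq_lt_one_iff₀ (by positivity), div_lt_one hp]
        exact hlt0
      have := Finset.sum_lt_sum hle ⟨χ, mem_irrFinset.2 hirr, hlt⟩
      rw [h1, h2] at this
      exact lt_irrefl _ this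
    have hdvd : Nat.card (comSub x) ∣ cs v :=
      card_dvd_cs fun χ hirr hv0 w hw => (apply_of_norm_eq hirr (hnorm χ hirr hv0) hw).2 v
    rw [(T.C_eq_of_comm hy hK hv hv1).1] at hdvd
    refine hWne (hmeet _ normalClosure_normal (inf_eq_bot_of_coprime ?_))
    exact (Nat.Coprime.coprime_dvd_left hdvd (hAcard.symm ▸ T.coprime.symm))
  refine CfsgLib.ClassRank.CoprimeConfig.false_of_config_gen cfg
    (by show 1 < Nat.card (C y); rw [hAcard]; exact Nat.lt_of_le_of_ne T.a_pos (Ne.symm T.a_ne_one))
    (by show ¬ IsPrimePow (Nat.card (C y)); rwa [hAcard])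
    (e := e) rfl hprod ?_ ?_
  · intro v hv hv1 hnorm hconst hcard
    obtain ⟨v₁, ⟨hv₁W, hv₁A⟩, hv₁⟩ := (Subgroup.bot_or_exists_ne_one (comSub x ⊓ C y)).resolve_left
      fun h => hWne (hmeet _ normalClosure_normal h)
    -- `x` and `x v` are conjugate
    have hval : ∀ χ : G → ℂ, Cfsg.IsIrrCharacter G χ → χ (x * v) ≠ 0 → χ x = χ (x * v) := by
      intro χ hirr hxv0
      have hm := cfg.mul_value hirr hv
      have h0 : χ 1 * χ (x * v) ≠ 0 := mul_ne_zero (IsIrrCharacter.apply_one_ne_zero hirr) hxv0
      have hx0 : χ x ≠ 0 := fun h => h0 (by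
        rw [hm, show cfg.x = x from rfl, h, zero_mul])
      have hv0 : χ v ≠ 0 := fun h => h0 (by rw [hm, h, mul_zero])
      obtain ⟨n, hn⟩ := hconst χ hirr hx0
      have hv1' : χ v = χ 1 := by
        rw [hn v hv hv1, ← hn v₁ hv₁A hv₁]
        exact (apply_of_norm_eq hirr (hnorm χ hirr hx0 hv0) hv₁W).1
      rw [hv1'] at hm
      exact (mul_left_cancel₀ (IsIrrCharacter.apply_one_ne_zero hirr) (hm.trans (mul_comm _ _))).symm
    have hconj : IsConj (x * v) x := by
      by_contra hno
      have hsum := sum_irr_mul_conj (x * v) x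
      rw [if_neg hno, Finset.sum_congr rfl (g := fun χ => χ (x * v) * conj (χ (x * v))) (fun χ hχ => by
        by_cases h0 : χ (x * v) = 0
        · rw [h0]; simp
        · rw [hval χ (mem_irrFinset.1 hχ) h0])] at hsum
      have hyy := sum_irr_mul_conj (x * v) (x * v)
      rw [if_pos (IsConj.refl _)] at hyy
      rw [hyy] at hsum
      exact (Nat.card_pos (α := Subgroup.centralizer ({x * v} : Set G))).ne' (by exact_mod_cast hsum)
    obtain ⟨g, hg⟩ := isConj_iff.1 hconj
    have hce : T.c ≤ e := by
      refine le_trans (le_of_eq ?_) hcard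
      have h1 := cs_mul (x * v)
      rw [← cs_conj g (x * v), hg, hx, T.card_eq, mul_comm T.a] at h1
      exact (Nat.eq_of_mul_eq_mul_right T.a_pos h1).symm
    have hec' : e = T.c := le_antisymm (Nat.le_of_dvd T.c_pos hec) hce
    have hNtop : N = ⊤ := by
      rw [← index_eq_one]
      have h1 := relIndex_mul_index hAN
      rw [hidx, ← he, hec'] at h1
      exact (Nat.mul_eq_left T.c_pos.ne').1 h1
    have hAn : (C y).Normal := normalizer_eq_top_iff.1 hNtop
    exact ne_one_of_prime hyp (mem_bot.1 (hrad _ hAn (isSolvable_of_comm hK) ▸ self_mem y))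
  · intro g hg1 _
    rcases T.cases g hg1 with h | h | h
    · exact le_of_le_of_eq (Nat.le_of_dvd T.c_pos hec) (T.card_CA h).symm
    · by_cases he1 : e ≤ 1
      · exact le_trans he1 Nat.card_pos
      -- a complement in the normaliser
      haveI : ((C y).subgroupOf N).Normal := inferInstance
      have hAidxN : (Nat.card (C y)).Coprime e := hAcard.symm ▸ T.coprime.coprime_dvd_right hec
      obtain ⟨E₀, hE₀⟩ := exists_right_complement'_of_coprime (N := (C y).subgroupOf N) (by
        rw [Nat.card_congr (subgroupOfEquivOfLe hAN).toEquiv]; exact hAidxN)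
      have hE₀card : Nat.card E₀ = e := hE₀.symm.index_eq_card.symm
      have hfpf : ∀ z ∈ E₀, z ≠ 1 → (C y).subgroupOf N ⊓ centralizer ({z} : Set N) = ⊥ := by
        intro z hz hz1
        rw [eq_bot_iff]
        rintro w ⟨hw, hwc⟩
        rw [mem_bot]
        by_contra hw1
        have hw' : (w : G) ∈ C y := mem_subgroupOf.1 hw
        have hzA : (z : G) ∈ C y := by
          rw [← (T.C_eq_of_comm hy hK hw' (fun h' => hw1 (Subtype.ext h'))).2]
          exact mem_centralizer_singleton_iff.2 (congrArg Subtype.val (mem_centralizer_singleton_iff.1 hwc).symm)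
        exact hz1 (mem_bot.1 (hE₀.disjoint.eq_bot ▸ (mem_inf.2 ⟨mem_subgroupOf.2 hzA, hz⟩)))
      obtain ⟨φ, hφ⟩ := CfsgLib.FpfComplement.exists_fpf hfpf
      haveI : Nontrivial ((C y).subgroupOf N) := by
        rw [← Finite.one_lt_card_iff_nontrivial, Nat.card_congr (subgroupOfEquivOfLe hAN).toEquiv, hAcard]
        exact Nat.lt_of_le_of_ne T.a_pos (Ne.symm T.a_ne_one)
      haveI : Nontrivial E₀ := Finite.one_lt_card_iff_nontrivial.1 (by rw [hE₀card]; omega)
      obtain ⟨u₁, hu₁, hu₁1⟩ := (Subgroup.bot_or_exists_ne_one _).resolve_left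
        (CfsgLib.FpfComplement.center_ne_bot hφ)
      obtain ⟨k, hk⟩ := exists_pow_prime (x := ((u₁ : N) : G)) fun h => hu₁1 (Subtype.ext (Subtype.ext h))
      have hu₀ : u₁ ^ k ∈ center E₀ := pow_mem hu₁ k
      set u : G := ((u₁ : N) : G) ^ k with hudef
      have hu1 : u ≠ 1 := ne_one_of_prime hk
      have hEle : E₀.map N.subtype ≤ C u := by
        rintro _ ⟨z, hz, rfl⟩
        refine mem_C.2 ?_
        have := congrArg (fun w : E₀ => ((w : N) : G)) (mem_center_iff.1 hu₀ ⟨z, hz⟩)
        show ((z : N) : G) * u = u * ((z : N) : G)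
        simpa [hudef] using this
      have hEcard : Nat.card (E₀.map N.subtype) = e := by
        rw [card_map_of_injective N.subtype_injective, hE₀card]
      have hue : orderOf u ∣ e := by
        have hmem : u ∈ E₀.map N.subtype := ⟨((u₁ ^ k : E₀) : N), (u₁ ^ k).2, by simp [hudef]⟩
        exact hEcard ▸ Subgroup.orderOf_dvd_natCard _ hmem
      rcases T.typeAB_of_dvd hu1 (hue.trans hec) with hu | hu
      · exfalso
        haveI hEs : Group.IsSolvable E₀ := by
          have := isSolvable_of_le hEle (T.solvable_C hu hk)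
          exact Group.isSolvable_of_isSolvable_injective
            (f := (equivMapOfInjective E₀ N.subtype N.subtype_injective).toMonoidHom)
            (equivMapOfInjective E₀ N.subtype N.subtype_injective).injective
        have hNs : Group.IsSolvable N := by
          refine isSolvable_of_normal ((C y).subgroupOf N) ?_ ?_
          · haveI := isSolvable_of_comm hK
            exact Group.isSolvable_of_isSolvable_injective (f := (subgroupOfEquivOfLe hAN).toMonoidHom)
              (subgroupOfEquivOfLe hAN).injective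
          · refine Group.isSolvable_of_surjective (f := (QuotientGroup.mk' _).comp E₀.subtype) ?_
            rintro ⟨n⟩
            obtain ⟨⟨w, z⟩, hwz⟩ := hE₀.2 n
            refine ⟨z, ?_⟩
            show (QuotientGroup.mk (z : N) : N ⧸ (C y).subgroupOf N) = QuotientGroup.mk n
            rw [← hwz]
            show _ = QuotientGroup.mk ((w : N) * (z : N))
            rw [QuotientGroup.mk_mul, (QuotientGroup.eq_one_iff (w : N)).2 w.2, one_mul]
        have hle : normalClosure ({u} : Set G) ≤ N := by
          rw [normalClosure, closure_le]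
          intro w hw
          obtain ⟨u', hu', hconj⟩ := Group.mem_conjugatesOfSet_iff.1 hw
          rw [Set.mem_singleton_iff] at hu'
          rw [hu'] at hconj
          obtain ⟨g', rfl⟩ := isConj_iff.1 hconj
          obtain ⟨k', hk', l, hl, hgk⟩ := exists_mul_of_coprime_index (C u) (C y)
            (by show (cs u).Coprime (cs y); rw [hu, hy]; exact T.coprime) g'⁻¹
          have hg : g' = l⁻¹ * k'⁻¹ := by rw [← mul_inv_rev, ← hgk, inv_inv]
          have hk'' : Commute k'⁻¹ u := Commute.inv_left (mem_C.1 hk')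
          rw [SetLike.mem_coe, hg, show l⁻¹ * k'⁻¹ * u * (l⁻¹ * k'⁻¹)⁻¹ = l⁻¹ * (k'⁻¹ * u * k') * l by group,
            show k'⁻¹ * u * k' = u by rw [hk''.eq]; group]
          have huN : u ∈ N := by rw [hudef]; exact pow_mem (u₁ : N).2 k
          exact mul_mem (mul_mem (inv_mem (hAN hl)) huN) (hAN hl)
        exact hu1 (mem_bot.1 (hrad _ normalClosure_normal (isSolvable_of_le hle hNs) ▸
          subset_normalClosure (Set.mem_singleton u)))
      · refine le_trans (Nat.le_of_dvd Nat.card_pos (hEcard ▸ card_dvd_of_le hEle)) (le_of_eq ?_)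
        refine Nat.eq_of_mul_eq_mul_right T.b_pos ?_
        have h1 := cs_mul u
        have h2 := cs_mul g
        rw [hu] at h1; rw [h] at h2
        exact h1.trans h2.symm
    · have hd : e ∣ T.a - 1 := hAcard ▸ CfsgLib.Char.index_subgroupOf_dvd_card_sub_one hAN
        (fun n hn w hw => (mem_normalizer_iff.1 hn w).1 hw) (fun w hw hw1 => (cfg.self w hw hw1).le)
      have ha2 : 0 < T.a - 1 := by have := T.a_pos; have := T.a_ne_one; omega
      exact le_trans (Nat.le_of_dvd ha2 hd) (le_trans (Nat.sub_le _ _) (le_of_eq (T.card_CC h).symm))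

end NF

end CfsgLib.ThreeSizeCenterless
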