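import Cfsg.Agent.ThreeSizeCenterless.Split
import Cfsg.Agent.Solvable.CoprimeAbelian
import Cfsg.Agent.Solvable.PGroupBasic
import Cfsg.Agent.Solvable.Basics

/-!
# No element of class size `a` has pairwise commuting conjugates
-/

set_option autoImplicit false
set_option linter.unusedSectionVars false
set_option linter.style.haveILetI false

namespace CfsgLib.ThreeSizeCenterless

open Subgroup
open scoped commutatorElement
open CfsgLib.ClassRank (cs cs_mul)

universe u

variable {G : Type u} [Group G] [Finite G]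

theorem normalizer_commutator {U V : Subgroup G} {h : G} (hU : h ∈ normalizer (U : Set G))
    (hV : h ∈ normalizer (V : Set G)) : h ∈ normalizer (↑⁅U, V⁆ : Set G) := by
  have hm : ∀ W : Subgroup G, h ∈ normalizer (W : Set G) → W.map (MulAut.conj h).toMonoidHom = W := by
    intro W hW
    ext w
    rw [mem_map_equiv, MulAut.conj_symm_apply]
    have := (mem_normalizer_iff.1 hW (h⁻¹ * w * h))
    rwa [show h * (h⁻¹ * w * h) * h⁻¹ = w by group] at this
  have heq : (⁅U, V⁆).map (MulAut.conj h).toMonoidHom = ⁅U, V⁆ := by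
    rw [map_commutator, hm U hU, hm V hV]
  refine mem_normalizer_iff.2 fun w => ?_
  conv_rhs => rw [← heq]
  rw [mem_map_equiv, MulAut.conj_symm_apply, show h⁻¹ * (h * w * h⁻¹) * h = w by group]

namespace NF

variable (T : NF G)

include T

theorem solvable_CC {y : G} (hyp : (orderOf y).Prime) (hy : cs y = T.c) : Group.IsSolvable (C y) := by
  rcases T.C_comm_or_pGroup hyp hy rfl with h | h
  · exact isSolvable_of_comm h
  · exact CfsgLib.PRegClass.isSolvable_of_isPGroup hyp h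

/-- A normal subgroup equal to the centraliser of an element of size `a` is impossible. -/
theorem not_normal_C {x : G} (hxp : (orderOf x).Prime) (hx : cs x = T.a) : ¬ (C x).Normal := by
  intro hn
  haveI := hn
  obtain ⟨y, hyp, hy⟩ := T.exists_primeC
  apply T.ns
  refine isSolvable_of_normal (C x) (T.solvable_C hx hxp) ?_
  haveI := T.solvable_CC hyp hy
  refine Group.isSolvable_of_surjective (f := (QuotientGroup.mk' (C x)).comp (C y).subtype) ?_
  haveI := Fintype.ofFinite (C y)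
  haveI := Fintype.ofFinite (G ⧸ C x)
  refine ((Fintype.bijective_iff_injective_and_card _).2 ⟨(injective_iff_map_eq_one _).2 fun v hv => ?_, ?_⟩).2
  · have hvx : (v : G) ∈ C x := (QuotientGroup.eq_one_iff _).1 hv
    exact Subtype.ext (mem_bot.1 (T.inter_eq_bot hx hy ▸ mem_inf.2 ⟨hvx, v.2⟩))
  · rw [← Nat.card_eq_fintype_card, ← Nat.card_eq_fintype_card, ← Subgroup.index_eq_card, T.card_CC hy]
    exact hx.symm

theorem step {x x' : G} (hx : cs x = T.a) (hx' : cs x' = T.a) (hC : C x' = C x)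
    (hcomm : ∀ g g' : G, Commute (g * x * g⁻¹) (g' * x * g'⁻¹)) :
    ∀ g g' : G, Commute (g * x' * g⁻¹) (g' * x' * g'⁻¹) := by
  have hC' : ∀ g : G, C (g * x' * g⁻¹) = C (g * x * g⁻¹) := fun g => by rw [C_conj, C_conj, hC]
  intro g g'
  have h1 : g' * x * g'⁻¹ ∈ C (g * x' * g⁻¹) := by rw [hC']; exact mem_C.2 (hcomm g' g)
  have h2 : g * x' * g⁻¹ ∈ C (g' * x' * g'⁻¹) := by rw [hC']; exact mem_C_symm h1
  exact mem_C.1 h2

/-- No element of prime order and size `a` has pairwise commuting conjugates. -/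
theorem pencil {x : G} (hxp : (orderOf x).Prime) (hx : cs x = T.a)
    (hcomm : ∀ g g' : G, Commute (g * x * g⁻¹) (g' * x * g'⁻¹)) : False := by
  classical
  obtain ⟨s, q, hs, hq, hsq, hsb, hqb, hsa, hqa⟩ := T.two_outside_primes
  have key : ∀ r : ℕ, r.Prime → r ∣ T.b → ¬ r ∣ T.a → ∃ w : G, orderOf w = r ∧ cs w = T.a ∧ C w = C x := by
    intro r hr hrb hra
    by_cases hrx : r = orderOf x
    · exact ⟨x, hrx.symm, hx, rfl⟩
    · obtain ⟨w, hwo, -, hwa, hwC⟩ := T.exists_same_centralizer hx hr (T.dvd_m hr hrb hra)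
        (prime_coprime hr hxp hrx)
      exact ⟨w, hwo, hwa, hwC⟩
  set N := (C x).normalCore with hN
  haveI : N.Normal := normalCore_normal _
  have hNH : N ≤ C x := normalCore_le _
  have hne : N.subgroupOf (C x) ≠ ⊤ := fun h => T.not_normal_C hxp hx (by
    have : N = C x := le_antisymm hNH (subgroupOf_eq_top.1 h)
    rw [← this]; exact inferInstance)
  haveI := T.solvable_C hx hxp
  obtain ⟨E₀, hE₀n, hE₀1, -, -, -, t, ht, -, hE₀p⟩ := CfsgLib.Solvable.exists_normal_elementary_le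
    (G := C x ⧸ N.subgroupOf (C x)) (N := ⊤)
    (fun h => hne (by
      rw [eq_top_iff]
      intro v _
      have hv : (QuotientGroup.mk v : C x ⧸ N.subgroupOf (C x)) ∈ (⊥ : Subgroup (C x ⧸ N.subgroupOf (C x))) :=
        h ▸ mem_top _
      exact (QuotientGroup.eq_one_iff v).1 (mem_bot.1 hv)))
    inferInstance
  haveI := Fact.mk ht
  set E : Subgroup (C x) := E₀.comap (QuotientGroup.mk' (N.subgroupOf (C x))) with hE
  haveI : E.Normal := hE₀n.comap _
  have hEN : N.subgroupOf (C x) < E := by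
    refine lt_of_le_of_ne (fun g hg => ?_) fun h => hE₀1 ?_
    · show QuotientGroup.mk' _ g ∈ E₀
      rw [QuotientGroup.mk'_apply, (QuotientGroup.eq_one_iff g).2 hg]
      exact one_mem _
    · rw [← map_comap_eq_self_of_surjective (QuotientGroup.mk'_surjective (N.subgroupOf (C x))) E₀, ← hE, ← h,
        QuotientGroup.map_mk'_self]
  obtain ⟨P⟩ : Nonempty (Sylow t E) := inferInstance
  set S : Subgroup (C x) := (P : Subgroup E).map E.subtype with hS
  have hNS : N.subgroupOf (C x) ⊔ S = E := by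
    refine le_antisymm (sup_le hEN.le (map_subtype_le _)) ?_
    rw [← relIndex_eq_one]
    by_contra h1
    obtain ⟨r, hr, hrd⟩ := Nat.exists_prime_and_dvd h1
    have e1 : r ∣ (N.subgroupOf (C x)).relIndex E := hrd.trans (relIndex_dvd_of_le_left _ le_sup_left)
    have e2 : r ∣ S.relIndex E := hrd.trans (relIndex_dvd_of_le_left _ le_sup_right)
    obtain ⟨i, hi⟩ := IsPGroup.iff_card.1 hE₀p
    have e3 : (N.subgroupOf (C x)).relIndex E = t ^ i := by
      rw [← hi, ← relIndex_bot_left E₀]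
      have := relIndex_comap (⊥ : Subgroup (C x ⧸ N.subgroupOf (C x)))
        (QuotientGroup.mk' (N.subgroupOf (C x))) E
      rw [MonoidHom.comap_bot, QuotientGroup.ker_mk'] at this
      rw [this, hE, map_comap_eq_self_of_surjective (QuotientGroup.mk'_surjective (N.subgroupOf (C x))) E₀]
    have hrt : r = t := (Nat.prime_dvd_prime_iff_eq hr ht).1 (hr.dvd_of_dvd_pow (e3 ▸ e1))
    rw [hrt, relIndex, hS, subgroupOf, comap_map_eq_self_of_injective E.subtype_injective] at e2
    exact P.not_dvd_index e2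
  have hSN : ¬ S ≤ N.subgroupOf (C x) := fun h => hEN.ne (by rw [← hNS, sup_eq_left.2 h])
  obtain ⟨r, hr, hrt, hrb, hra, r', hr', hrr', hr'b, hr'a⟩ : ∃ r : ℕ, r.Prime ∧ r ≠ t ∧ r ∣ T.b ∧ ¬ r ∣ T.a ∧
      ∃ r' : ℕ, r'.Prime ∧ r ≠ r' ∧ r' ∣ T.b ∧ ¬ r' ∣ T.a := by
    by_cases h : s = t
    · exact ⟨q, hq, fun e => hsq (h.trans e.symm), hqb, hqa, s, hs, hsq.symm, hsb, hsa⟩
    · exact ⟨s, hs, h, hsb, hsa, q, hq, hsq, hqb, hqa⟩
  haveI := Fact.mk hr
  obtain ⟨w, hwo, hwa, hwC⟩ := key r hr hrb hra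
  obtain ⟨w', hw'o, hw'a, hw'C⟩ := key r' hr' hr'b hr'a
  have hwcomm := T.step hx hwa hwC hcomm
  set W := normalClosure ({w} : Set G) with hW
  haveI hWn : W.Normal := normalClosure_normal
  have hgen : ∀ u ∈ Group.conjugatesOfSet ({w} : Set G), ∃ g : G, u = g * w * g⁻¹ := by
    intro u hu
    obtain ⟨u', hu', hc⟩ := Group.mem_conjugatesOfSet_iff.1 hu
    rw [Set.mem_singleton_iff] at hu'
    obtain ⟨g, hg⟩ := isConj_iff.1 (hu' ▸ hc)
    exact ⟨g, hg.symm⟩
  haveI hWc : IsMulCommutative W := by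
    apply isMulCommutative_closure
    intro u hu v hv
    obtain ⟨g, rfl⟩ := hgen u hu
    obtain ⟨g', rfl⟩ := hgen v hv
    exact hwcomm g g'
  have hWp : IsPGroup r W := by
    intro u
    refine ⟨1, Subtype.ext ?_⟩
    rw [SubmonoidClass.coe_pow, pow_one, OneMemClass.coe_one]
    refine Subgroup.closure_induction (p := fun v _ => v ^ r = 1) ?_ (one_pow _) ?_ ?_ u.2
    · intro v hv
      obtain ⟨g, rfl⟩ := hgen v hv
      rw [conj_pow, ← hwo, pow_orderOf_eq_one, mul_one, mul_inv_cancel]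
    · intro v v' hv hv' e e'
      rw [(show Commute v v' from congrArg Subtype.val (hWc.is_comm.comm ⟨v, hv⟩ ⟨v', hv'⟩)).mul_pow, e, e',
        one_mul]
    · intro v _ e
      rw [inv_pow, e, inv_one]
  have hWC : centralizer (W : Set G) = N := by
    rw [hW]
    show centralizer ((closure (Group.conjugatesOfSet ({w} : Set G)) : Subgroup G) : Set G) = N
    rw [centralizer_closure]
    ext v
    rw [hN, normalCore]
    rw [mem_centralizer_iff]
    constructor
    · intro h b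
      show b * v * b⁻¹ ∈ C x
      rw [← hwC, mem_C]
      have h' : b⁻¹ * w * b * v = v * (b⁻¹ * w * b) := h _ (Group.mem_conjugatesOfSet_iff.2
        ⟨w, rfl, isConj_iff.2 ⟨b⁻¹, by rw [inv_inv]⟩⟩)
      show b * v * b⁻¹ * w = w * (b * v * b⁻¹)
      calc b * v * b⁻¹ * w = b * (v * (b⁻¹ * w * b)) * b⁻¹ := by group
        _ = b * (b⁻¹ * w * b * v) * b⁻¹ := by rw [h']
        _ = w * (b * v * b⁻¹) := by group
    · intro (h : ∀ b : G, b * v * b⁻¹ ∈ C x) u hu
      obtain ⟨g, rfl⟩ := hgen u hu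
      have h' : Commute (g⁻¹ * v * g⁻¹⁻¹) w := mem_C.1 (hwC.symm ▸ h g⁻¹)
      rw [inv_inv] at h'
      calc g * w * g⁻¹ * v = g * (w * (g⁻¹ * v * g)) * g⁻¹ := by group
        _ = g * (g⁻¹ * v * g * w) * g⁻¹ := by rw [h'.eq]
        _ = v * (g * w * g⁻¹) := by group
  have hWN : W ≤ N := hWC ▸ (le_centralizer_iff_isMulCommutative.2 hWc)
  set S' : Subgroup G := S.map (C x).subtype with hS'
  have hS'W : S' ≤ normalizer (W : Set G) := le_normalizer_of_normal
  have hS'p : IsPGroup t S' := (P.2.map _).map _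
  have hcop : (Nat.card S').Coprime (Nat.card W) := by
    obtain ⟨i, hi⟩ := IsPGroup.iff_card.1 hS'p
    obtain ⟨j, hj⟩ := IsPGroup.iff_card.1 hWp
    rw [hi, hj]
    exact Nat.Coprime.pow _ _ ((Nat.coprime_primes ht hr).2 (Ne.symm hrt))
  set U := ⁅W, S'⁆ with hU
  have hUW : U ≤ W := commutator_le_left _ _
  have hUne : U ≠ ⊥ := by
    intro h
    refine hSN fun g hg => mem_subgroupOf.2 ?_
    have hle : S' ≤ centralizer (W : Set G) :=
      le_centralizer_iff.1 (commutator_eq_bot_iff_le_centralizer.1 h)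
    rw [← hWC]
    exact hle ⟨g, hg, rfl⟩
  have hUH : U ≤ C x := hUW.trans (hWN.trans hNH)
  have hUE : U = ⁅W, E.map (C x).subtype⁆ := by
    refine le_antisymm (commutator_mono le_rfl (map_mono (map_subtype_le _))) (commutator_le.2 ?_)
    rintro u hu _ ⟨e, he, rfl⟩
    rw [← hNS, SetLike.mem_coe, ← SetLike.mem_coe, normal_mul] at he
    obtain ⟨n, hn, v, hv, rfl⟩ := he
    have hv' : ⁅u, (v : G)⁆ ∈ U := commutator_mem_commutator hu ⟨v, hv, rfl⟩
    have hcn : ∀ z ∈ W, z * (n : G) = (n : G) * z := fun z hz =>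
      (mem_centralizer_iff.1 (hWC.symm ▸ mem_subgroupOf.1 hn : (n : G) ∈ centralizer (W : Set G)) z hz)
    rw [map_mul, Subgroup.subtype_apply, Subgroup.subtype_apply]
    have : ⁅u, (n : G) * (v : G)⁆ = ⁅u, (v : G)⁆ := by
      have h1 : u * (n : G) = n * u := hcn u hu
      have h2 := hcn _ (hUW hv')
      rw [commutatorElement_def] at h2 ⊢
      rw [commutatorElement_def]
      calc u * ((n : G) * v) * u⁻¹ * ((n : G) * v)⁻¹ = (u * n) * v * u⁻¹ * (v : G)⁻¹ * (n : G)⁻¹ := by group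
        _ = (n * u) * v * u⁻¹ * (v : G)⁻¹ * (n : G)⁻¹ := by rw [h1]
        _ = n * (u * v * u⁻¹ * (v : G)⁻¹) * (n : G)⁻¹ := by group
        _ = u * v * u⁻¹ * (v : G)⁻¹ := by rw [← h2]; group
    rw [this]
    exact hv'
  haveI hUn : (U.subgroupOf (C x)).Normal := by
    refine normal_subgroupOf_iff_le_normalizer hUH |>.2 fun h hh => ?_
    rw [hUE]
    refine normalizer_commutator (le_normalizer_of_normal (mem_top h)) ?_
    exact (normal_subgroupOf_iff_le_normalizer (map_subtype_le E)).1 (by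
      rw [subgroupOf, comap_map_eq_self_of_injective (C x).subtype_injective]
      exact inferInstance) hh
  obtain ⟨Q₀, hQ₀⟩ := ((hWp.to_le hUW).of_equiv (subgroupOfEquivOfLe hUH).symm).exists_le_sylow
  haveI : Group.IsNilpotent (Q₀ : Subgroup (C x)) := Q₀.2.isNilpotent
  haveI : ((U.subgroupOf (C x)).subgroupOf (Q₀ : Subgroup (C x))).Normal := inferInstance
  obtain ⟨z, ⟨hzU, hzc⟩, hz1⟩ := (Subgroup.bot_or_exists_ne_one _).resolve_left
    (CfsgLib.PGroupBasic.inf_center_ne_bot ((U.subgroupOf (C x)).subgroupOf (Q₀ : Subgroup (C x)))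
      (fun h => hUne (by
        rw [subgroupOf_eq_bot, disjoint_iff, inf_eq_left.2 hQ₀, subgroupOf_eq_bot, disjoint_iff,
          inf_eq_left.2 hUH] at h
        exact h)))
  set w₀ : G := ((z : C x) : G) with hw₀
  have hzU' : w₀ ∈ U := mem_subgroupOf.1 (mem_subgroupOf.1 hzU)
  have hw₀1 : w₀ ≠ 1 := fun h => hz1 (Subtype.ext (Subtype.ext h))
  obtain ⟨k, hk⟩ := hWp ⟨w₀, hUW hzU'⟩
  have hco : (orderOf w₀).Coprime (orderOf w') := by
    obtain ⟨i, -, hi⟩ := (Nat.dvd_prime_pow hr).1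
      (orderOf_dvd_of_pow_eq_one (congrArg Subtype.val hk) : orderOf w₀ ∣ r ^ k)
    rw [hi, hw'o]
    exact ((Nat.coprime_primes hr hr').2 hrr').pow_left i
  have hmem : w₀ ∈ C w' := by rw [hw'C]; exact hUH hzU'
  have hrel : (C w₀).relIndex (C x) = 1 := by
    rcases T.regular_sizes hw'a hmem hco with h | h <;> rw [hw'C] at h
    · exact h
    · exfalso
      refine Q₀.not_dvd_index (?_ : r ∣ _)
      refine (T.dvd_m hr hrb hra).trans (h ▸ ?_)
      rw [← T.cs_sub (z : C x)]
      refine index_dvd_of_le fun v hv => mem_C.2 ?_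
      exact congrArg (fun a : (Q₀ : Subgroup (C x)) => (a : C x)) (mem_center_iff.1 hzc ⟨v, hv⟩)
  have hle : C x ≤ C w₀ := relIndex_eq_one.1 hrel
  have hfix : w₀ ∈ W ⊓ centralizer (S' : Set G) :=
    ⟨hUW hzU', mem_centralizer_iff.2 fun v hv => by
      obtain ⟨v', hv', rfl⟩ := hv
      exact (mem_C.1 (hle v'.2)).eq⟩
  have h3 : w₀ ∈ (W ⊓ centralizer (S' : Set G)) ⊓ ⁅W, S'⁆ := ⟨hfix, hzU'⟩
  rw [CfsgLib.CoprimeAct.fixed_inf_commutator_abelian hS'W hcop] at h3
  exact hw₀1 (mem_bot.1 h3)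

end NF

end CfsgLib.ThreeSizeCenterless
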