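import Cfsg.Agent.ThreeSizeCenterless.Pencil

/-!
# No solvable normal subgroup in the non-free configuration
-/

set_option autoImplicit false
set_option linter.unusedSectionVars false
set_option linter.style.haveILetI false

namespace CfsgLib.ThreeSizeCenterless

open Subgroup
open CfsgLib.ClassRank (cs cs_mul)

universe u

variable {G : Type u} [Group G] [Finite G]

theorem conj_commute {V : Subgroup G} (hn : V.Normal) (hc : IsMulCommutative V) {v : G} (hv : v ∈ V)
    (g g' : G) : Commute (g * v * g⁻¹) (g' * v * g'⁻¹) :=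
  congrArg Subtype.val (hc.is_comm.comm ⟨_, hn.conj_mem v hv g⟩ ⟨_, hn.conj_mem v hv g'⟩)

theorem le_sylow {p : ℕ} [Fact p.Prime] {V : Subgroup G} (hn : V.Normal) (hp : IsPGroup p V) (P : Sylow p G) :
    V ≤ (P : Subgroup G) := by
  obtain ⟨Q, hQ⟩ := hp.exists_le_sylow
  obtain ⟨g, hg⟩ := MulAction.exists_smul_eq G Q P
  intro v hv
  rw [← hg, Sylow.smul_def, Sylow.pointwise_smul_def, mem_pointwise_smul_iff_inv_smul_mem]
  simpa [MulAut.smul_def, mul_assoc] using hQ (by simpa using hn.conj_mem v hv g⁻¹ : g⁻¹ * v * g ∈ V)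

theorem normalizer_solvable {T : Subgroup G} (hT : IsCyclic T)
    (h : Group.IsSolvable (centralizer (T : Set G))) : Group.IsSolvable (normalizer (T : Set G)) := by
  haveI := h
  have e := (centralizer_le_normalizer (T : Set G))
  haveI : Group.IsSolvable ((centralizer (T : Set G)).subgroupOf (normalizer (T : Set G))) :=
    Group.isSolvable_of_isSolvable_injective (f := (subgroupOfEquivOfLe e).toMonoidHom)
      (subgroupOfEquivOfLe e).injective
  haveI : Group.IsSolvable (MulAut T) := Group.isSolvable_of_comm fun a b => by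
    refine (IsCyclic.mulAutMulEquiv T).injective ?_
    rw [map_mul, map_mul, mul_comm]
  refine Group.isSolvable_of_ker_le_range ((centralizer (T : Set G)).subgroupOf (normalizer (T : Set G))).subtype
    T.normalizerMonoidHom ?_
  rw [normalizerMonoidHom_ker, range_subtype]

namespace NF

variable (T : NF G)

include T

theorem no_solvable_normal : ∀ N : Subgroup G, N.Normal → Group.IsSolvable N → N = ⊥ := by
  intro N₀ hN₀ hs₀
  by_contra hne
  haveI := hN₀
  obtain ⟨V, hVn, hV1, -, hVc, -, p, hp, hVe, hVp⟩ := CfsgLib.Solvable.exists_normal_elementary_le hne hs₀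
  haveI := Fact.mk hp
  haveI := hVn
  have hVo : ∀ v ∈ V, v ≠ 1 → orderOf v = p := fun v hv hv1 => orderOf_eq_prime (hVe v hv) hv1
  obtain ⟨v, hv, hv1⟩ := (Subgroup.bot_or_exists_ne_one _).resolve_left hV1
  by_cases hpa : p ∣ T.a
  · have hVt : ∀ u ∈ V, u ≠ 1 → cs u = T.c := fun u hu hu1 => T.typeC_of_dvd hu1 ((hVo u hu hu1).symm ▸ hpa)
    have hvp : (orderOf v).Prime := (hVo v hv hv1).symm ▸ hp
    rcases T.C_comm_or_pGroup hp (hVt v hv hv1) (hVo v hv hv1) with hK | hK
    · have hVK : V ≤ C v := fun u hu => mem_C.2 (congrArg Subtype.val (hVc.is_comm.comm ⟨u, hu⟩ ⟨v, hv⟩))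
      have hCV : centralizer (V : Set G) = C v := by
        refine le_antisymm (centralizer_le (Set.singleton_subset_iff.2 hv)) fun g hg => mem_centralizer_iff.2 fun u hu => ?_
        exact congrArg Subtype.val (hK.is_comm.comm ⟨u, hVK hu⟩ ⟨g, hg⟩)
      obtain ⟨x, hxp, hx⟩ := T.exists_primeA
      haveI : (C v).Normal := hCV ▸ inferInstance
      apply T.ns
      refine isSolvable_of_normal (C v) (isSolvable_of_comm hK) ?_
      haveI := T.solvable_C hx hxp
      refine Group.isSolvable_of_surjective (f := (QuotientGroup.mk' (C v)).comp (C x).subtype) ?_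
      haveI := Fintype.ofFinite (C x)
      haveI := Fintype.ofFinite (G ⧸ C v)
      refine ((Fintype.bijective_iff_injective_and_card _).2 ⟨(injective_iff_map_eq_one _).2 fun g hg => ?_, ?_⟩).2
      · have hgv : (g : G) ∈ C v := (QuotientGroup.eq_one_iff _).1 hg
        exact Subtype.ext (mem_bot.1 (T.inter_eq_bot hx (hVt v hv hv1) ▸ mem_inf.2 ⟨g.2, hgv⟩))
      · rw [← Nat.card_eq_fintype_card, ← Nat.card_eq_fintype_card, ← Subgroup.index_eq_card, T.card_CA hx]
        exact (hVt v hv hv1).symm
    · -- `a` is a power of `p`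
      obtain ⟨j, hj⟩ := IsPGroup.iff_card.1 hK
      rw [T.card_CC (hVt v hv hv1)] at hj
      obtain ⟨M, ⟨hMn, hMp⟩, hmax⟩ := Set.exists_max_image
        {M : Subgroup G | M.Normal ∧ IsPGroup p M} (fun M => Nat.card M) (Set.toFinite _) ⟨V, hVn, hVp⟩
      haveI := hMn
      have hM1 : M ≠ ⊥ := fun h => by
        have hle : Nat.card V ≤ Nat.card M := hmax V ⟨hVn, hVp⟩
        rw [h, card_bot] at hle
        exact absurd ((one_lt_card_iff_ne_bot V).2 hV1) (by omega)
      obtain ⟨x, hxp, hx⟩ := T.exists_primeA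
      have hxs : Group.IsSolvable (normalClosure ({x} : Set G)) :=
        CfsgLib.Kazarin.isSolvable_normalClosure hp x (hx.trans hj)
      have hxM : x ∉ M := fun h => by
        obtain ⟨k, hk⟩ := hMp ⟨x, h⟩
        obtain ⟨i, -, hi⟩ := (Nat.dvd_prime_pow hp).1
          (orderOf_dvd_of_pow_eq_one (congrArg Subtype.val hk) : orderOf x ∣ p ^ k)
        refine ne_one_of_prime hxp (orderOf_eq_one_iff.1 (Nat.eq_one_of_dvd_coprimes T.coprime ?_
          (T.card_CA hx ▸ Subgroup.orderOf_dvd_natCard _ (self_mem x))))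
        have hd : orderOf x ∣ p ^ i := dvd_of_eq hi
        rw [(Nat.prime_dvd_prime_iff_eq hxp hp).1 (hxp.dvd_of_dvd_pow hd)]
        exact hpa
      haveI := hxs
      obtain ⟨E₀, hE₀n, hE₀1, -, hE₀c, -, t, ht, hE₀e, hE₀p⟩ := CfsgLib.Solvable.exists_normal_elementary_le
        (G := G ⧸ M) (N := (normalClosure ({x} : Set G)).map (QuotientGroup.mk' M))
        (fun h => hxM ((QuotientGroup.eq_one_iff x).1 (mem_bot.1
          (h ▸ mem_map_of_mem _ (subset_normalClosure (Set.mem_singleton x))))))
        (Group.isSolvable_of_surjective ((QuotientGroup.mk' M).subgroupMap_surjective (normalClosure ({x} : Set G))))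
      haveI := Fact.mk ht
      haveI := hE₀n
      set E : Subgroup G := E₀.comap (QuotientGroup.mk' M) with hE
      haveI : E.Normal := hE₀n.comap _
      have hME : M ≤ E := fun g hg => by
        show QuotientGroup.mk' M g ∈ E₀
        rw [QuotientGroup.mk'_apply, (QuotientGroup.eq_one_iff g).2 hg]
        exact one_mem _
      have hmap : E.map (QuotientGroup.mk' M) = E₀ :=
        map_comap_eq_self_of_surjective (QuotientGroup.mk'_surjective M) E₀
      obtain ⟨i, hi⟩ := IsPGroup.iff_card.1 hE₀p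
      have hrel : M.relIndex E = t ^ i := by
        have := relIndex_comap (⊥ : Subgroup (G ⧸ M)) (QuotientGroup.mk' M) E
        rw [MonoidHom.comap_bot, QuotientGroup.ker_mk'] at this
        rw [this, hmap, relIndex_bot_left, hi]
      have hi0 : i ≠ 0 := fun h => by
        rw [h, pow_zero] at hi
        exact hE₀1 (eq_bot_of_card_eq _ hi)
      have hcardE : Nat.card E = Nat.card M * t ^ i := by
        rw [← hrel, ← relIndex_bot_left M, ← relIndex_bot_left E, relIndex_mul_relIndex ⊥ M E bot_le hME]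
      have htp : t ≠ p := by
        intro h
        obtain ⟨k, hk⟩ := IsPGroup.iff_card.1 hMp
        have hle : Nat.card E ≤ Nat.card M := hmax E ⟨inferInstance,
          IsPGroup.of_card (n := k + i) (by rw [hcardE, hk, h, pow_add])⟩
        rw [hcardE] at hle
        have : 1 < t ^ i := Nat.one_lt_pow hi0 ht.one_lt
        nlinarith [Nat.card_pos (α := M)]
      obtain ⟨P⟩ : Nonempty (Sylow t E) := inferInstance
      set S : Subgroup G := (P : Subgroup E).map E.subtype with hS
      have hSp : IsPGroup t S := P.2.map _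
      obtain ⟨l, hl⟩ := IsPGroup.iff_card.1 hSp
      obtain ⟨k, hk⟩ := IsPGroup.iff_card.1 hMp
      have hMS : M ⊓ S = ⊥ :=
        inf_eq_bot_of_coprime (by rw [hk, hl]; exact Nat.Coprime.pow _ _ ((Nat.coprime_primes hp ht).2 (Ne.symm htp)))
      have hinj : ∀ u ∈ S, (QuotientGroup.mk' M) u = 1 → u = 1 := fun u hu h1 =>
        mem_bot.1 (hMS ▸ mem_inf.2 ⟨(QuotientGroup.eq_one_iff u).1 h1, hu⟩)
      have hSE : ∀ u ∈ S, (QuotientGroup.mk' M) u ∈ E₀ := fun u hu => (map_subtype_le _ hu : u ∈ E)
      have hSexp : ∀ u ∈ S, u ^ t = 1 := fun u hu =>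
        hinj _ (pow_mem hu t) (by rw [map_pow]; exact hE₀e _ (hSE u hu))
      haveI hSc : IsMulCommutative S := ⟨⟨fun a b => Subtype.ext (by
        have h := hinj (((a * b) * (b * a)⁻¹ : S) : G) (SetLike.coe_mem _) (by
          push_cast
          rw [map_mul, map_inv, map_mul, map_mul, mul_inv_eq_one]
          exact congrArg Subtype.val (hE₀c.is_comm.comm ⟨_, hSE a a.2⟩ ⟨_, hSE b b.2⟩))
        push_cast at h ⊢
        exact mul_inv_eq_one.1 h)⟩⟩
      have htype : ∀ e ∈ S, e ≠ 1 → cs e = T.a ∨ cs e = T.b := by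
        intro e he he1
        rcases T.cases e he1 with h | h | h
        · exact Or.inl h
        · exact Or.inr h
        · exfalso
          have hd : orderOf e ∣ p ^ j := by rw [← hj, ← T.card_CC h]; exact Subgroup.orderOf_dvd_natCard _ (self_mem e)
          rw [orderOf_eq_prime (hSexp e he) he1] at hd
          exact htp ((Nat.prime_dvd_prime_iff_eq ht hp).1 (ht.dvd_of_dvd_pow hd))
      have hS1 : S ≠ ⊥ := by
        intro h
        have h1 : Nat.card (P : Subgroup E) = 1 := by
          rw [← card_map_of_injective (f := E.subtype) E.subtype_injective, ← hS, h, card_bot]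
        refine P.ne_bot_of_dvd_card ?_ (eq_bot_of_card_eq _ h1)
        rw [hcardE]
        exact Dvd.dvd.mul_left (dvd_pow_self t hi0) _
      have hfix : ∀ e ∈ S, e ≠ 1 → M ⊓ C e = ⊥ := by
        intro e he he1
        refine inf_eq_bot_of_coprime ?_
        rw [hk]
        refine Nat.Coprime.coprime_dvd_right (T.typeAB_order (htype e he he1)) ((Nat.Coprime.pow_left k ?_))
        exact hp.coprime_iff_not_dvd.2 fun h => T.no_common hp hpa h
      have hcyc : IsCyclic S := by
        by_contra hnc
        refine hM1 (le_bot_iff.1 ?_)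
        rw [← CfsgLib.CoprimeAct.generated_by_centralizers hnc (le_normalizer_of_normal : S ≤ normalizer (M : Set G))
          (by rw [hk, hl]; exact Nat.Coprime.pow _ _ ((Nat.coprime_primes ht hp).2 htp))]
        exact iSup₂_le fun e he => (hfix e he.1 he.2).le
      obtain ⟨e, he, he1⟩ := (Subgroup.bot_or_exists_ne_one _).resolve_left hS1
      have hsol : Group.IsSolvable (centralizer (S : Set G)) :=
        isSolvable_of_le (centralizer_le (Set.singleton_subset_iff.2 he))
          (T.solvable_CAB (htype e he he1) ((orderOf_eq_prime (hSexp e he) he1).symm ▸ ht))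
      have hNS := normalizer_solvable hcyc hsol
      apply T.ns
      haveI : Group.IsSolvable M := CfsgLib.PRegClass.isSolvable_of_isPGroup hp hMp
      refine isSolvable_of_normal M inferInstance ?_
      haveI := hNS
      refine Group.isSolvable_of_surjective (f := (QuotientGroup.mk' M).comp (normalizer (S : Set G)).subtype) ?_
      rintro ⟨g⟩
      have hESM : E ≤ normalizer (S : Set G) ⊔ M := by
        refine le_trans ?_ (sup_le_sup le_normalizer le_rfl)
        rw [← relIndex_eq_one]
        by_contra h1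
        obtain ⟨r, hr, hrd⟩ := Nat.exists_prime_and_dvd h1
        have e1 : r ∣ t ^ i := hrel ▸ hrd.trans (relIndex_dvd_of_le_left _ le_sup_right)
        have e2 : r ∣ S.relIndex E := hrd.trans (relIndex_dvd_of_le_left _ le_sup_left)
        rw [(Nat.prime_dvd_prime_iff_eq hr ht).1 (hr.dvd_of_dvd_pow e1), relIndex, hS, subgroupOf,
          comap_map_eq_self_of_injective E.subtype_injective] at e2
        exact P.not_dvd_index e2
      have hg : g ∈ normalizer (S : Set G) ⊔ M := by
        have h := Sylow.normalizer_sup_eq_top P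
        rw [← hS] at h
        exact (sup_le le_sup_left hESM : normalizer (S : Set G) ⊔ E ≤ _) (h ▸ mem_top g)
      rw [← SetLike.mem_coe, mul_normal] at hg
      obtain ⟨n, hn, w, hw, rfl⟩ := hg
      refine ⟨⟨n, hn⟩, ?_⟩
      show (QuotientGroup.mk n : G ⧸ M) = QuotientGroup.mk (n * w)
      rw [QuotientGroup.mk_mul, (QuotientGroup.eq_one_iff w).2 hw, mul_one]
  · by_cases hall : ∃ u ∈ V, u ≠ 1 ∧ cs u = T.a
    · obtain ⟨u, hu, hu1, hua⟩ := hall
      exact T.pencil (x := u) ((hVo u hu hu1).symm ▸ hp) hua (conj_commute hVn hVc hu)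
    push Not at hall
    have hpc : p ∣ T.c := by
      have : p ∣ T.a * T.c := T.card_eq ▸ (hVo v hv hv1 ▸ orderOf_dvd_natCard v)
      exact (hp.dvd_mul.1 this).resolve_left hpa
    have hvb : cs v = T.b :=
      (T.typeAB_of_dvd hv1 ((hVo v hv hv1).symm ▸ hpc)).resolve_left (hall v hv hv1)
    obtain ⟨r, hr, hrb, hra, hrp⟩ : ∃ r : ℕ, r.Prime ∧ r ∣ T.b ∧ ¬ r ∣ T.a ∧ r ≠ p := by
      obtain ⟨s, q, hs, hq, hsq, hsb, hqb, hsa, hqa⟩ := T.two_outside_primes
      by_cases h : s = p
      · exact ⟨q, hq, hqb, hqa, fun e => hsq (h.trans e.symm)⟩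
      · exact ⟨s, hs, hsb, hsa, h⟩
    obtain ⟨x, hxo, hx⟩ := T.central_typeA hr hrb hra
    have hin : ∀ g : G, V ≤ C (g * x * g⁻¹) := by
      intro g
      obtain ⟨P, hP⟩ := exists_sylow_le (p := p) (C (g * x * g⁻¹)) (by
        show ¬ p ∣ cs (g * x * g⁻¹)
        rw [cs_conj, hx]
        exact hpa)
      exact (le_sylow hVn hVp P).trans hP
    refine T.pencil (x := x) (hxo.symm ▸ hr) hx fun g g' => ?_
    have hle := T.absorbB hvb (mem_C.1 (hin g hv)) (by
      rw [hVo v hv hv1, orderOf_conj, hxo]; exact prime_coprime hp hr (Ne.symm hrp))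
    exact (mem_C.1 (hle (mem_C_symm (hin g' hv)))).symm

end NF

end CfsgLib.ThreeSizeCenterless
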