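import Cfsg.Agent.ThreeSizeCenterless.Tools
import Cfsg.Agent.S4146

/-!
# Three class sizes `a ∣ b` and `c` in a nonsolvable centerless group
-/

set_option autoImplicit false
set_option linter.unusedSectionVars false
set_option linter.style.haveILetI false

namespace CfsgLib.ThreeSizeCenterless

open Subgroup
open CfsgLib.ClassRank (cs cs_mul cs_pow_dvd centralizer_mul_of_coprime exists_pow_prime)

universe u

/-- The non-free configuration of class sizes. -/
structure NF (G : Type u) [Group G] where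
  a : ℕ
  b : ℕ
  c : ℕ
  ns : ¬ Group.IsSolvable G
  hZ : center G = ⊥
  cases : ∀ x : G, x ≠ 1 → cs x = a ∨ cs x = b ∨ cs x = c
  exA : ∃ x : G, x ≠ 1 ∧ cs x = a
  exB : ∃ x : G, x ≠ 1 ∧ cs x = b
  exC : ∃ x : G, x ≠ 1 ∧ cs x = c
  hab : a ∣ b
  nab : a ≠ b
  nac : a ≠ c
  nbc : b ≠ c

variable {G : Type u} [Group G] [Finite G]

namespace NF

variable (T : NF G)

include T

theorem cs_ne_one {x : G} (hx : x ≠ 1) : cs x ≠ 1 := fun h => hx (by
  have htop : C x = ⊤ := index_eq_one.1 h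
  rw [← mem_bot, ← T.hZ, mem_center_iff]
  exact fun g => (mem_C.1 (htop ▸ mem_top g : g ∈ C x)).eq)

theorem a_ne_one : T.a ≠ 1 := by
  obtain ⟨x, hx, h⟩ := T.exA
  exact h ▸ T.cs_ne_one hx

theorem c_ne_one : T.c ≠ 1 := by
  obtain ⟨x, hx, h⟩ := T.exC
  exact h ▸ T.cs_ne_one hx

theorem a_pos : 0 < T.a := by
  obtain ⟨x, hx, h⟩ := T.exA
  exact h ▸ cs_pos x

theorem c_pos : 0 < T.c := by
  obtain ⟨x, hx, h⟩ := T.exC
  exact h ▸ cs_pos x

theorem b_pos : 0 < T.b := by
  obtain ⟨x, hx, h⟩ := T.exB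
  exact h ▸ cs_pos x

theorem a_dvd_card : T.a ∣ Nat.card G := by
  obtain ⟨x, hx, h⟩ := T.exA
  exact h ▸ index_dvd_card _

theorem b_dvd_card : T.b ∣ Nat.card G := by
  obtain ⟨x, hx, h⟩ := T.exB
  exact h ▸ index_dvd_card _

theorem c_dvd_card : T.c ∣ Nat.card G := by
  obtain ⟨x, hx, h⟩ := T.exC
  exact h ▸ index_dvd_card _

theorem exists_central {p : ℕ} (hp : p.Prime) (hd : p ∣ Nat.card G) :
    ∃ z : G, orderOf z = p ∧ z ≠ 1 ∧ ¬ p ∣ cs z ∧ ∃ P : Sylow p G, z ∈ (P : Subgroup G) ∧ (P : Subgroup G) ≤ C z := by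
  haveI := Fact.mk hp
  obtain ⟨P⟩ : Nonempty (Sylow p G) := inferInstance
  obtain ⟨z, hzP, hz, hzc⟩ := CfsgLib.ClassRank.exists_central P hd
  exact ⟨z, hz, ne_one_of_prime (hz ▸ hp), fun h => P.not_dvd_index (h.trans (index_dvd_of_le hzc)),
    P, hzP, hzc⟩

theorem no_common {p : ℕ} (hp : p.Prime) (ha : p ∣ T.a) (hc : p ∣ T.c) : False := by
  obtain ⟨z, -, hz1, hnd, -⟩ := T.exists_central hp (ha.trans T.a_dvd_card)
  rcases T.cases z hz1 with h | h | h
  · exact hnd (h ▸ ha)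
  · exact hnd (h ▸ ha.trans T.hab)
  · exact hnd (h ▸ hc)

theorem coprime : T.a.Coprime T.c := Nat.coprime_of_dvd fun _ hp ha hc => T.no_common hp ha hc

theorem a_not_dvd_c : ¬ T.a ∣ T.c := fun h =>
  T.a_ne_one (Nat.eq_one_of_dvd_coprimes T.coprime dvd_rfl h)

theorem c_not_dvd_a : ¬ T.c ∣ T.a := fun h =>
  T.c_ne_one (Nat.eq_one_of_dvd_coprimes T.coprime h dvd_rfl)

theorem b_not_dvd_a : ¬ T.b ∣ T.a := fun h => T.nab (Nat.dvd_antisymm T.hab h)

theorem b_not_dvd_c : ¬ T.b ∣ T.c := fun h => T.a_not_dvd_c (T.hab.trans h)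

theorem multA {x : G} (hx : x ≠ 1) (h : T.a ∣ cs x) : cs x = T.a ∨ cs x = T.b := by
  rcases T.cases x hx with e | e | e
  · exact Or.inl e
  · exact Or.inr e
  · exact absurd (e ▸ h) T.a_not_dvd_c

theorem dvdA {x : G} (hx : x ≠ 1) (h : cs x ∣ T.a) : cs x = T.a := by
  rcases T.cases x hx with e | e | e
  · exact e
  · exact absurd (e ▸ h) T.b_not_dvd_a
  · exact absurd (e ▸ h) T.c_not_dvd_a

theorem dvdC {x : G} (hx : x ≠ 1) (h : cs x ∣ T.c) : cs x = T.c := by
  rcases T.cases x hx with e | e | e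
  · exact absurd (e ▸ h) T.a_not_dvd_c
  · exact absurd (e ▸ h) T.b_not_dvd_c
  · exact e

theorem multB {x : G} (hx : x ≠ 1) (h : T.b ∣ cs x) : cs x = T.b := by
  rcases T.cases x hx with e | e | e
  · exact absurd (e ▸ h) T.b_not_dvd_a
  · exact e
  · exact absurd (e ▸ h) T.b_not_dvd_c

theorem multC {x : G} (hx : x ≠ 1) (h : T.c ∣ cs x) : cs x = T.c ∨ (cs x = T.b ∧ T.c ∣ T.b) := by
  rcases T.cases x hx with e | e | e
  · exact absurd (e ▸ h) T.c_not_dvd_a
  · exact Or.inr ⟨e, e ▸ h⟩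
  · exact Or.inl e

/-- When `c ∣ b` the roles of `a` and `c` are symmetric. -/
def swap (hcb : T.c ∣ T.b) : NF G where
  a := T.c
  b := T.b
  c := T.a
  ns := T.ns
  hZ := T.hZ
  cases := fun x hx => by rcases T.cases x hx with e | e | e <;> simp [e]
  exA := T.exC
  exB := T.exB
  exC := T.exA
  hab := hcb
  nab := T.nbc.symm
  nac := T.nac.symm
  nbc := T.nab.symm

theorem exists_primeA : ∃ x : G, (orderOf x).Prime ∧ cs x = T.a := by
  obtain ⟨x, hx, h⟩ := T.exA
  obtain ⟨k, hk⟩ := exists_pow_prime hx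
  exact ⟨x ^ k, hk, T.dvdA (ne_one_of_prime hk) (h ▸ cs_pow_dvd x k)⟩

theorem exists_primeC : ∃ x : G, (orderOf x).Prime ∧ cs x = T.c := by
  obtain ⟨x, hx, h⟩ := T.exC
  obtain ⟨k, hk⟩ := exists_pow_prime hx
  exact ⟨x ^ k, hk, T.dvdC (ne_one_of_prime hk) (h ▸ cs_pow_dvd x k)⟩

theorem index_inter {x y : G} (hx : cs x = T.a) (hy : cs y = T.c) :
    (C x ⊓ C y).index = T.a * T.c := by
  refine le_antisymm ?_ (Nat.le_of_dvd (Nat.pos_of_ne_zero index_ne_zero_of_finite)
    (T.coprime.mul_dvd_of_dvd_of_dvd (hx ▸ index_dvd_of_le inf_le_left) (hy ▸ index_dvd_of_le inf_le_right)))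
  rw [← hx, ← hy]
  exact index_inf_le

theorem card_inter {x y : G} (hx : cs x = T.a) (hy : cs y = T.c) :
    Nat.card ↥(C x ⊓ C y) * (T.a * T.c) = Nat.card G := by
  rw [← T.index_inter hx hy]
  exact card_mul_index _

theorem ac_dvd_card : T.a * T.c ∣ Nat.card G :=
  T.coprime.mul_dvd_of_dvd_of_dvd T.a_dvd_card T.c_dvd_card

theorem b_ne_mul : T.b ≠ T.a * T.c := by
  intro hb
  apply T.ns
  haveI : Group.IsNilpotent G := by
    refine (Cfsg.Agent.S4146.result T.a T.c (Nat.lt_of_le_of_ne T.a_pos (Ne.symm T.a_ne_one))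
      (Nat.lt_of_le_of_ne T.c_pos (Ne.symm T.c_ne_one)) T.coprime ?_).1
    ext n
    simp only [Set.mem_range, Set.mem_insert_iff, Set.mem_singleton_iff]
    constructor
    · rintro ⟨x, rfl⟩
      by_cases hx : x = 1
      · refine Or.inl ?_
        rw [index_eq_one, eq_top_iff, hx]
        exact fun g _ => mem_C.2 (Commute.one_right g)
      · rcases T.cases x hx with e | e | e
        · exact Or.inr (Or.inl e)
        · exact Or.inr (Or.inr (Or.inr (e.trans hb)))
        · exact Or.inr (Or.inr (Or.inl e))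
    · rintro (rfl | rfl | rfl | rfl)
      · exact ⟨1, by rw [index_eq_one, eq_top_iff]; exact fun g _ => mem_C.2 (Commute.one_right g)⟩
      · obtain ⟨x, -, h⟩ := T.exA; exact ⟨x, h⟩
      · obtain ⟨x, -, h⟩ := T.exC; exact ⟨x, h⟩
      · obtain ⟨x, -, h⟩ := T.exB; exact ⟨x, h.trans hb⟩
  infer_instance

theorem coprime_false {x y : G} (hx : cs x = T.a) (hy : cs y = T.c) (h : Commute x y)
    (hc : (orderOf x).Coprime (orderOf y)) : False := by
  have hx1 : x ≠ 1 := by
    rintro rfl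
    refine T.a_ne_one (hx ▸ ?_)
    rw [index_eq_one, eq_top_iff]
    exact fun g _ => mem_C.2 (Commute.one_right g)
  have heq : cs (x * y) = T.a * T.c := by
    rw [← T.index_inter hx hy]
    show (C (x * y)).index = _
    rw [C, centralizer_mul_of_coprime h hc]
  rcases T.cases _ (mul_ne_one_of_coprime hc hx1) with e | e | e <;> rw [heq] at e
  · exact T.c_ne_one ((Nat.mul_eq_left T.a_pos.ne').1 e)
  · exact T.b_ne_mul e.symm
  · exact T.a_ne_one ((Nat.mul_eq_right T.c_pos.ne').1 e)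

/-- A centraliser of type `b` lies in that of every commuting element of coprime order. -/
theorem absorbB {w x : G} (hw : cs w = T.b) (h : Commute w x) (hc : (orderOf w).Coprime (orderOf x)) :
    C w ≤ C x := by
  have hle : C (w * x) ≤ C w := by rw [C, centralizer_mul_of_coprime h hc]; exact inf_le_left
  have hw1 : w ≠ 1 := by
    rintro rfl
    refine T.b_not_dvd_a (?_ : T.b ∣ T.a)
    rw [← hw]
    have : cs (1 : G) = 1 := index_eq_one.2 (eq_top_iff.2 fun g _ => mem_C.2 (Commute.one_right g))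
    rw [this]
    exact one_dvd _
  have heq := C_eq_of_le hle ((T.multB (mul_ne_one_of_coprime hc hw1) (hw ▸ index_dvd_of_le hle)).trans hw.symm)
  rw [← heq, C, centralizer_mul_of_coprime h hc]
  exact inf_le_right

/-- The quotient `b / a`. -/
def m : ℕ := T.b / T.a

theorem b_eq : T.b = T.a * T.m := (Nat.mul_div_cancel' T.hab).symm

theorem m_ne_one : T.m ≠ 1 := fun h => T.nab (by rw [T.b_eq, h, mul_one])

theorem m_pos : 0 < T.m := Nat.div_pos (Nat.le_of_dvd T.b_pos T.hab) T.a_pos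

theorem card_C {x : G} (hx : cs x = T.a) : Nat.card (C x) * T.a = Nat.card G := hx ▸ cs_mul x

theorem m_dvd_card {x : G} (hx : cs x = T.a) : T.m ∣ Nat.card (C x) := by
  refine Nat.dvd_of_mul_dvd_mul_left T.a_pos ?_
  rw [← T.b_eq, mul_comm T.a, T.card_C hx]
  exact T.b_dvd_card

theorem regular_sizes {x : G} (hx : cs x = T.a) {u : G} (hu : u ∈ C x)
    (hc : (orderOf u).Coprime (orderOf x)) :
    (C u).relIndex (C x) = 1 ∨ (C u).relIndex (C x) = T.m := by
  by_cases hu1 : u = 1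
  · refine Or.inl (relIndex_eq_one.2 fun g _ => ?_)
    rw [hu1]
    exact mem_C.2 (Commute.one_right g)
  have hcomm : Commute u x := mem_C.1 hu
  have h1 : cs (u * x) = (C u).relIndex (C x) * T.a := by
    show (C (u * x)).index = _
    rw [C, centralizer_mul_of_coprime hcomm hc, ← hx, ← inf_relIndex_right, relIndex_mul_index inf_le_right]
  rcases T.multA (mul_ne_one_of_coprime hc hu1) (h1 ▸ Dvd.intro_left _ rfl) with e | e
  · exact Or.inl ((Nat.mul_eq_right T.a_pos.ne').1 (h1.symm.trans e))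
  · refine Or.inr (Nat.eq_of_mul_eq_mul_right T.a_pos ?_)
    rw [h1.symm.trans e, T.b_eq, mul_comm]

theorem cs_sub {H : Subgroup G} (u : H) : cs u = (C (u : G)).relIndex H := by
  show (centralizer ({u} : Set H)).index = _
  unfold relIndex
  congr 1
  ext v
  simp [mem_subgroupOf, mem_centralizer_singleton_iff, Subtype.ext_iff]

theorem two_regular_C {x : G} (hx : cs x = T.a) (hxp : (orderOf x).Prime) :
    Group.IsSolvable (C x) ∧ ∀ d ∈ C x, (orderOf d).Coprime (orderOf x) → (orderOf d).Prime →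
      (C d).relIndex (C x) ≠ 1 →
      ∃ q : ℕ, (∀ r : ℕ, r.Prime → r ∣ T.m → r = orderOf x ∨ r = q) ∧
        (orderOf d = orderOf x ∨ orderOf d = q) := by
  have h := two_regular (G := C x) (m := T.m) hxp (fun u hu => by
    rw [T.cs_sub]
    exact T.regular_sizes hx u.2 (by rwa [orderOf_coe]))
  refine ⟨h.1, fun d hd hc hdp hne => ?_⟩
  have e : orderOf (⟨d, hd⟩ : C x) = orderOf d := (orderOf_coe _).symm
  have h2 := h.2 T.m_ne_one ⟨d, hd⟩ (by rwa [e])
    (by rw [T.cs_sub]; exact (T.regular_sizes hx hd hc).resolve_left hne) (by rwa [e])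
  rwa [e] at h2

theorem solvable_C {x : G} (hx : cs x = T.a) (hxp : (orderOf x).Prime) : Group.IsSolvable (C x) :=
  (T.two_regular_C hx hxp).1

/-- Each prime of `b / a` other than the order of `x` has an element with the same centraliser. -/
theorem exists_same_centralizer {x : G} (hx : cs x = T.a) {r : ℕ} (hr : r.Prime) (hrm : r ∣ T.m)
    (hco : r.Coprime (orderOf x)) : ∃ w : G, orderOf w = r ∧ w ≠ 1 ∧ cs w = T.a ∧ C w = C x := by
  haveI := Fact.mk hr
  obtain ⟨Q⟩ : Nonempty (Sylow r (C x)) := inferInstance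
  obtain ⟨z, -, hz, hzc⟩ := CfsgLib.ClassRank.exists_central Q (hrm.trans (T.m_dvd_card hx))
  have ho : orderOf (z : G) = r := by rw [orderOf_coe, hz]
  have hnd : ¬ r ∣ cs z := fun h => Q.not_dvd_index (h.trans (index_dvd_of_le hzc))
  have hw1 : (z : G) ≠ 1 := ne_one_of_prime (ho ▸ hr)
  have h1 : (C (z : G)).relIndex (C x) = 1 := by
    refine (T.regular_sizes hx z.2 (by rw [ho]; exact hco)).resolve_right fun h => hnd ?_
    rw [T.cs_sub, h]
    exact hrm
  have hle : C x ≤ C (z : G) := relIndex_eq_one.1 h1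
  have hcz : cs (z : G) = T.a := T.dvdA hw1 (hx ▸ index_dvd_of_le hle)
  exact ⟨z, ho, hw1, hcz, (C_eq_of_le hle (hx.trans hcz.symm)).symm⟩

theorem prime_dvd_size {p : ℕ} (hp : p.Prime) (hd : p ∣ Nat.card G) :
    p ∣ T.a ∨ p ∣ T.b ∨ p ∣ T.c := by
  obtain ⟨x, hx⟩ := exists_dvd_cs T.hZ hp hd
  by_cases hx1 : x = 1
  · exfalso
    have : cs x = 1 := index_eq_one.2 (eq_top_iff.2 fun g _ => by rw [hx1]; exact mem_C.2 (Commute.one_right g))
    rw [this] at hx
    exact hp.not_dvd_one hx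
  · rcases T.cases x hx1 with e | e | e <;> rw [e] at hx
    · exact Or.inl hx
    · exact Or.inr (Or.inl hx)
    · exact Or.inr (Or.inr hx)

end NF

end CfsgLib.ThreeSizeCenterless
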