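import Cfsg.Agent.ThreeSizeCenterless.Complements

/-!
# Two primes of `b` outside `a`: the order is `a c`
-/

set_option autoImplicit false
set_option linter.unusedSectionVars false
set_option linter.style.haveILetI false

namespace CfsgLib.ThreeSizeCenterless

open Subgroup
open CfsgLib.ClassRank (cs cs_mul centralizer_mul_of_coprime exists_pow_prime)

universe u

variable {G : Type u} [Group G] [Finite G]

namespace NF

variable (T : NF G)

include T

theorem orderC_dvd_a {y : G} (hyp : (orderOf y).Prime) (hy : cs y = T.c) : orderOf y ∣ T.a := by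
  by_contra hno
  obtain ⟨q, hq, hqa⟩ := Nat.exists_prime_and_dvd T.a_ne_one
  have hK := T.abelian_of_composite hyp hy rfl hq hqa (fun h => hno (h ▸ hqa))
  obtain ⟨x, -, hx⟩ := T.exists_primeA
  obtain ⟨-, hKc, -⟩ := T.card_C_of_inter hx hy (T.inter_eq_bot_of_comm hx hy hK)
  exact hno (hKc ▸ Subgroup.orderOf_dvd_natCard _ (self_mem y))

theorem central_typeA {s : ℕ} (hs : s.Prime) (hsb : s ∣ T.b) (hsa : ¬ s ∣ T.a) :
    ∃ x : G, orderOf x = s ∧ cs x = T.a := by
  obtain ⟨x, hxo, hx1, hxn, -⟩ := T.exists_central hs (hsb.trans T.b_dvd_card)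
  refine ⟨x, hxo, ?_⟩
  rcases T.cases x hx1 with e | e | e
  · exact e
  · exact absurd (e ▸ hsb) hxn
  · exact absurd (hxo ▸ T.orderC_dvd_a (hxo.symm ▸ hs) e) hsa

theorem dvd_m {s : ℕ} (hs : s.Prime) (hsb : s ∣ T.b) (hsa : ¬ s ∣ T.a) : s ∣ T.m := by
  rw [T.b_eq] at hsb
  exact (hs.dvd_mul.1 hsb).resolve_left hsa

theorem card_eq : Nat.card G = T.a * T.c := by
  obtain ⟨s, q, hs, hq, hsq, hsb, hqb, hsa, hqa⟩ := T.two_outside_primes
  obtain ⟨x, hxo, hx⟩ := T.central_typeA hs hsb hsa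
  obtain ⟨y, hyp, hy⟩ := T.exists_primeC
  have hra := T.orderC_dvd_a hyp hy
  have hsr : s ≠ orderOf y := fun h => hsa (h ▸ hra)
  refine (T.card_C_of_inter hx hy ?_).1
  rcases T.C_comm_or_pGroup hyp hy rfl with hK | hK
  · exact T.inter_eq_bot_of_comm hx hy hK
  by_contra hD
  obtain ⟨d₀, hd₀, hd₀1⟩ := (Subgroup.bot_or_exists_ne_one _).resolve_left hD
  obtain ⟨k, hk⟩ := exists_pow_prime hd₀1
  have hd : d₀ ^ k ∈ C x ⊓ C y := pow_mem hd₀ k
  generalize d₀ ^ k = d at hk hd
  have hd1 : d ≠ 1 := ne_one_of_prime hk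
  haveI := Fact.mk hyp
  have hdo : orderOf d = orderOf y := by
    obtain ⟨i, hi⟩ := IsPGroup.iff_card.1 hK
    exact (Nat.prime_dvd_prime_iff_eq hk hyp).1 (hk.dvd_of_dvd_pow (hi ▸ Subgroup.orderOf_dvd_natCard _ hd.2))
  have hxp : (orderOf x).Prime := hxo ▸ hs
  have hcop : (orderOf d).Coprime (orderOf x) := by
    rw [hdo, hxo]; exact prime_coprime hyp hs (Ne.symm hsr)
  rcases T.cases d hd1 with e | e | e
  · have hnz : (C d).relIndex (C x) ≠ 1 := by
      intro h
      have heq := C_eq_of_le (relIndex_eq_one.1 h) (hx.trans e.symm)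
      exact T.coprime_false hx hy (mem_C.1 (heq.symm ▸ mem_C_symm hd.2 : y ∈ C x)).symm
        (by rw [hxo]; exact prime_coprime hs hyp hsr)
    obtain ⟨q₀, hq₀, hdq⟩ := (T.two_regular_C hx hxp).2 d hd.1 hcop hk hnz
    have e1 : orderOf y = q₀ := by
      rcases hdq with h | h
      · exact absurd (hxo ▸ hdo.symm.trans h) (Ne.symm hsr)
      · exact hdo.symm.trans h
    have e2 : q = q₀ := (hq₀ q hq (T.dvd_m hq hqb hqa)).resolve_left (hxo ▸ Ne.symm hsq)
    exact hqa ((e2.trans e1.symm) ▸ hra)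
  · have hle := T.absorbB e (mem_C.1 hd.1) hcop
    exact T.coprime_false hx hy (mem_C.1 (hle (mem_C_symm hd.2))).symm
      (by rw [hxo]; exact prime_coprime hs hyp hsr)
  · exact T.coprime_false hx e (mem_C.1 hd.1).symm hcop.symm

theorem card_CA {x : G} (hx : cs x = T.a) : Nat.card (C x) = T.c := by
  have h := T.card_C hx
  rw [T.card_eq, mul_comm T.a] at h
  exact Nat.eq_of_mul_eq_mul_right T.a_pos h

theorem card_CC {y : G} (hy : cs y = T.c) : Nat.card (C y) = T.a := by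
  have h := cs_mul y
  rw [hy, T.card_eq] at h
  exact Nat.eq_of_mul_eq_mul_right T.c_pos h

theorem inter_eq_bot {x y : G} (hx : cs x = T.a) (hy : cs y = T.c) : C x ⊓ C y = ⊥ :=
  inf_eq_bot_of_coprime (by rw [T.card_CA hx, T.card_CC hy]; exact T.coprime.symm)

theorem card_CB {w : G} (hw : cs w = T.b) : Nat.card (C w) ∣ T.c := by
  have h := cs_mul w
  rw [hw, T.card_eq, T.b_eq] at h
  refine ⟨T.m, Nat.eq_of_mul_eq_mul_left T.a_pos ?_⟩
  rw [← h]; ring

theorem typeAB_order {w : G} (h : cs w = T.a ∨ cs w = T.b) : Nat.card (C w) ∣ T.c := by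
  rcases h with h | h
  · rw [T.card_CA h]
  · exact T.card_CB h

theorem typeC_of_dvd {w : G} (hw1 : w ≠ 1) (h : orderOf w ∣ T.a) : cs w = T.c := by
  have key : ¬ (cs w = T.a ∨ cs w = T.b) := fun h' => hw1 (orderOf_eq_one_iff.1
    (Nat.eq_one_of_dvd_coprimes T.coprime h
      ((Subgroup.orderOf_dvd_natCard _ (self_mem w)).trans (T.typeAB_order h'))))
  rcases T.cases w hw1 with e | e | e
  · exact absurd (Or.inl e) key
  · exact absurd (Or.inr e) key
  · exact e

theorem typeAB_of_dvd {w : G} (hw1 : w ≠ 1) (h : orderOf w ∣ T.c) : cs w = T.a ∨ cs w = T.b := by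
  rcases T.cases w hw1 with e | e | e
  · exact Or.inl e
  · exact Or.inr e
  · exact absurd (orderOf_eq_one_iff.1 (Nat.eq_one_of_dvd_coprimes T.coprime
      (T.card_CC e ▸ Subgroup.orderOf_dvd_natCard _ (self_mem w)) h)) hw1

theorem solvable_CB {w : G} (hw : cs w = T.b) (hwp : (orderOf w).Prime) : Group.IsSolvable (C w) := by
  refine CfsgLib.PRegClass.isSolvable_of_cond hwp fun u hu => ⟨0, ?_⟩
  rw [pow_zero]
  refine (T.cs_sub u).trans (relIndex_eq_one.2 ?_)
  exact T.absorbB hw (mem_C.1 u.2).symm (by rw [← orderOf_coe] at hu; exact hu.symm)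

theorem solvable_CAB {w : G} (h : cs w = T.a ∨ cs w = T.b) (hwp : (orderOf w).Prime) :
    Group.IsSolvable (C w) := by
  rcases h with h | h
  · exact T.solvable_C h hwp
  · exact T.solvable_CB h hwp

end NF

end CfsgLib.ThreeSizeCenterless
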